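import Groth.Agent.Lib.Helper2.SeqColimHomological
import Groth.Agent.Lib.Helper5.TruncRlimA
import Groth.Agent.Lib.Helper13.GoodMap

/-!
# Homotopy colimits of towers which stabilise on cohomology (helper2)

* `isIso_colimit_ι_of_eventually`: for a sequence whose transition maps are isomorphisms from
  `N` on, the coprojection `F N ⟶ colim F` is an isomorphism;
* `isIso_truncGE_map_iff`: `τ_{≥ a} f` is an isomorphism iff `H^j(f)` is for all `j ≥ a`;
* `isHocolim_of_tower`: if `i n : E n ⟶ K` is a compatible family such that for every `j` the map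
  `H^j(i n)` is an isomorphism for `n ≫ 0`, then `K` is a homotopy colimit of the `E n`.
-/

set_option autoImplicit false
set_option linter.style.haveILetI false
universe w v u
open CategoryTheory CategoryTheory.Limits CategoryTheory.Pretriangulated

namespace Groth.Agent.Lib.Helper2.Glue

section Seq

variable {C : Type u} [Category.{v} C] (F : ℕ ⥤ C)

lemma isIso_map_of_eventually (N : ℕ)
    (h : ∀ n, N ≤ n → IsIso (F.map (homOfLE (Nat.le_succ n)))) :
    ∀ (d n : ℕ) (hn : N ≤ n), IsIso (F.map (homOfLE (Nat.le_add_right n d))) := by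
  intro d
  induction d with
  | zero =>
    intro n hn
    have : homOfLE (Nat.le_add_right n 0) = 𝟙 n := rfl
    rw [this, F.map_id]
    infer_instance
  | succ d ih =>
    intro n hn
    have e : homOfLE (Nat.le_add_right n (d + 1)) =
        homOfLE (Nat.le_add_right n d) ≫ homOfLE (Nat.le_succ (n + d)) := rfl
    rw [e, F.map_comp]
    haveI := ih n hn
    haveI := h (n + d) (by omega)
    infer_instance

lemma isIso_map_of_eventually' (N : ℕ)
    (h : ∀ n, N ≤ n → IsIso (F.map (homOfLE (Nat.le_succ n)))) (n m : ℕ) (hn : N ≤ n)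
    (hnm : n ≤ m) : IsIso (F.map (homOfLE hnm)) := by
  obtain ⟨d, rfl⟩ := Nat.exists_eq_add_of_le hnm
  exact isIso_map_of_eventually F N h d n hn

variable [HasColimit F]

/-- for a sequence whose transition maps are isomorphisms from `N` on, the coprojection
`F N ⟶ colim F` is an isomorphism -/
theorem isIso_colimit_ι_of_eventually (N : ℕ)
    (h : ∀ n, N ≤ n → IsIso (F.map (homOfLE (Nat.le_succ n)))) : IsIso (colimit.ι F N) := by
  have hiso : ∀ (m : ℕ) (hm : N ≤ m), IsIso (F.map (homOfLE hm)) := fun m hm =>
    isIso_map_of_eventually' F N h N m le_rfl hm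
  let c : Cocone F :=
    { pt := F.obj N
      ι :=
        { app := fun n =>
            haveI := hiso (max n N) (le_max_right n N)
            F.map (homOfLE (le_max_left n N)) ≫ inv (F.map (homOfLE (le_max_right n N)))
          naturality := by
            intro n n' g
            haveI := hiso (max n N) (le_max_right n N)
            haveI := hiso (max n' N) (le_max_right n' N)
            have hnn' : n ≤ n' := leOfHom g
            have hM : max n N ≤ max n' N := max_le_max hnn' le_rfl
            haveI : IsIso (F.map (homOfLE hM)) :=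
              isIso_map_of_eventually' F N h _ _ (le_max_right n N) hM
            dsimp only [Functor.const_obj_obj, Functor.const_obj_map]
            rw [Category.comp_id]
            have e1 : F.map g ≫ F.map (homOfLE (le_max_left n' N)) =
                F.map (homOfLE (le_max_left n N)) ≫ F.map (homOfLE hM) := by
              rw [← F.map_comp, ← F.map_comp]
              rfl
            have e2 : F.map (homOfLE (le_max_right n' N)) =
                F.map (homOfLE (le_max_right n N)) ≫ F.map (homOfLE hM) := by
              rw [← F.map_comp]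
              rfl
            rw [← Category.assoc, e1, Category.assoc]
            congr 1
            rw [IsIso.comp_inv_eq, IsIso.eq_inv_comp]
            exact e2.symm } }
  haveI := hiso (max N N) (le_max_right N N)
  refine ⟨colimit.desc F c, ?_, ?_⟩
  · rw [colimit.ι_desc]
    show F.map (homOfLE (le_max_left N N)) ≫ inv (F.map (homOfLE (le_max_right N N))) = 𝟙 _
    exact IsIso.hom_inv_id _
  · apply colimit.hom_ext
    intro n
    haveI := hiso (max n N) (le_max_right n N)
    rw [colimit.ι_desc_assoc, Category.comp_id]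
    show (F.map (homOfLE (le_max_left n N)) ≫ inv (F.map (homOfLE (le_max_right n N)))) ≫
      colimit.ι F N = colimit.ι F n
    rw [← colimit.w F (homOfLE (le_max_right n N)), Category.assoc, IsIso.inv_hom_id_assoc,
      colimit.w]

end Seq

section Trunc

variable {A : Type u} [Category.{v} A] [Abelian A] [HasDerivedCategory.{w} A]

open DerivedCategory Groth.Agent.Lib.Helper13.GoodMap Groth.Agent.Lib.Helper5.TruncRlim

lemma homology_truncGEπ_naturality {K L : DerivedCategory A} (f : K ⟶ L) (a j : ℤ) :
    (homologyFunctor A j).map f ≫ (homologyFunctor A j).map ((TStructure.t.truncGEπ a).app L) =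
      (homologyFunctor A j).map ((TStructure.t.truncGEπ a).app K) ≫
        (homologyFunctor A j).map ((TStructure.t.truncGE a).map f) := by
  rw [← Functor.map_comp, ← Functor.map_comp]
  congr 1
  exact (TStructure.t.truncGEπ a).naturality f

/-- if `τ_{≥ a} f` is an isomorphism then `H^j(f)` is an isomorphism for `j ≥ a` -/
theorem isIso_homology_of_isIso_truncGE {K L : DerivedCategory A} (f : K ⟶ L) (a : ℤ)
    (h : IsIso ((TStructure.t.truncGE a).map f)) (j : ℤ) (hj : a ≤ j) :
    IsIso ((homologyFunctor A j).map f) := by
  haveI := isIso_homology_map_truncGEπ K a j hj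
  haveI := isIso_homology_map_truncGEπ L a j hj
  have e := homology_truncGEπ_naturality f a j
  have : (homologyFunctor A j).map f =
      ((homologyFunctor A j).map ((TStructure.t.truncGEπ a).app K) ≫
        (homologyFunctor A j).map ((TStructure.t.truncGE a).map f)) ≫
        inv ((homologyFunctor A j).map ((TStructure.t.truncGEπ a).app L)) := by
    rw [← e, Category.assoc, IsIso.hom_inv_id, Category.comp_id]
  rw [this]
  infer_instance

/-- if `H^j(f)` is an isomorphism for `j ≥ a` then `τ_{≥ a} f` is an isomorphism -/
theorem isIso_truncGE_of_isIso_homology {K L : DerivedCategory A} (f : K ⟶ L) (a : ℤ)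
    (h : ∀ j : ℤ, a ≤ j → IsIso ((homologyFunctor A j).map f)) :
    IsIso ((TStructure.t.truncGE a).map f) := by
  rw [DerivedCategory.isIso_iff]
  intro j
  by_cases hj : a ≤ j
  · haveI := isIso_homology_map_truncGEπ K a j hj
    haveI := isIso_homology_map_truncGEπ L a j hj
    haveI := h j hj
    have e := homology_truncGEπ_naturality f a j
    have : (homologyFunctor A j).map ((TStructure.t.truncGE a).map f) =
        inv ((homologyFunctor A j).map ((TStructure.t.truncGEπ a).app K)) ≫
          (homologyFunctor A j).map f ≫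
            (homologyFunctor A j).map ((TStructure.t.truncGEπ a).app L) := by
      rw [e, IsIso.inv_hom_id_assoc]
    rw [this]
    infer_instance
  · have h1 : IsZero ((homologyFunctor A j).obj ((TStructure.t.truncGE a).obj K)) :=
      isZero_of_isGE _ a j (by omega)
    have h2 : IsZero ((homologyFunctor A j).obj ((TStructure.t.truncGE a).obj L)) :=
      isZero_of_isGE _ a j (by omega)
    exact ⟨0, h1.eq_of_src _ _, h2.eq_of_src _ _⟩

theorem isIso_truncGE_of_good {K L : DerivedCategory A} (f : K ⟶ L) (a : ℤ)
    (hf : Good (a - 1) f) : IsIso ((TStructure.t.truncGE a).map f) :=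
  isIso_truncGE_of_isIso_homology f a (fun j hj => hf.1 j (by omega))

theorem good_of_isIso_truncGE {K L : DerivedCategory A} (f : K ⟶ L) (a : ℤ)
    (h : IsIso ((TStructure.t.truncGE a).map f)) (m : ℤ) (hm : a ≤ m) : Good m f := by
  refine ⟨fun j hj => isIso_homology_of_isIso_truncGE f a h j (by omega), ?_⟩
  haveI := isIso_homology_of_isIso_truncGE f a h m hm
  infer_instance

end Trunc

section Hocolim

variable {A : Type u} [Category.{v} A] [Abelian A] [HasDerivedCategory.{w} A]
  [HasColimitsOfShape (Discrete ℕ) (DerivedCategory A)]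
  [HasColimitsOfShape ℕ A] [HasExactColimitsOfShape ℕ A]
  [∀ j : ℤ, PreservesColimitsOfShape (Discrete ℕ) (DerivedCategory.homologyFunctor A j)]

open DerivedCategory

/-- if `i n : E n ⟶ K` is a compatible family such that for every `j` the map `H^j(i n)` is an
isomorphism for `n ≫ 0`, then `K` is a homotopy colimit of the `E n` -/
theorem isHocolim_of_tower (E : ℕ → DerivedCategory A) (f : ∀ n, E n ⟶ E (n + 1))
    (K : DerivedCategory A) (i : ∀ n, E n ⟶ K) (hfi : ∀ n, f n ≫ i (n + 1) = i n)
    (hi : ∀ j : ℤ, ∃ N : ℕ, ∀ n, N ≤ n → IsIso ((homologyFunctor A j).map (i n))) :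
    DerLim.IsHocolim E f K i := by
  obtain ⟨L, a, b, hT⟩ := distinguished_cocone_triangle (𝟙 (∐ E) - DerLim.shiftMap E f)
  have hz : (𝟙 (∐ E) - DerLim.shiftMap E f) ≫ Sigma.desc i = 0 := by
    apply Sigma.hom_ext
    intro n
    rw [comp_zero, Preadditive.sub_comp, Category.id_comp, Preadditive.comp_sub, Sigma.ι_desc,
      ← Category.assoc, SeqColim.ι_shiftMap, Category.assoc, Sigma.ι_desc, hfi, sub_self]
  obtain ⟨t, ht⟩ : ∃ t : L ⟶ K, Sigma.desc i = a ≫ t :=
    Triangle.yoneda_exact₂ _ hT (Sigma.desc i) hz
  have ha : Sigma.desc (fun n => Sigma.ι E n ≫ a) = a := by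
    apply Sigma.hom_ext
    intro n
    rw [Sigma.ι_desc]
  have hL : DerLim.IsHocolim E f L (fun n => Sigma.ι E n ≫ a) := ⟨b, by rw [ha]; exact hT⟩
  have hiso : IsIso t := by
    rw [DerivedCategory.isIso_iff]
    intro j
    obtain ⟨N, hN⟩ := hi j
    obtain ⟨e, he⟩ := SeqColim.exists_iso_colimit_of_isHocolim (homologyFunctor A j) E f L _ hL
    have hF : ∀ n, N ≤ n → IsIso ((Functor.ofSequence
        (fun n => (homologyFunctor A j).map (f n))).map (homOfLE (Nat.le_succ n))) := by
      intro n hn
      rw [Functor.ofSequence_map_homOfLE_succ]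
      show IsIso ((homologyFunctor A j).map (f n))
      have h1 := hN n hn
      have h2 := hN (n + 1) (by omega)
      have w : (homologyFunctor A j).map (f n) ≫ (homologyFunctor A j).map (i (n + 1)) =
          (homologyFunctor A j).map (i n) := by rw [← Functor.map_comp, hfi]
      exact @IsIso.of_isIso_fac_right _ _ _ _ _ _ _ _ h2 h1 w
    have h3 := isIso_colimit_ι_of_eventually _ N hF
    have h4 : IsIso ((homologyFunctor A j).map (Sigma.ι E N ≫ a)) := by
      have h5 := he N
      rw [← h5]
      exact @IsIso.comp_isIso _ _ _ _ _ _ _ h3 inferInstance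
    have h6 := hN N le_rfl
    have w : (homologyFunctor A j).map (Sigma.ι E N ≫ a) ≫ (homologyFunctor A j).map t =
        (homologyFunctor A j).map (i N) := by
      rw [← Functor.map_comp, Category.assoc, ← ht, Sigma.ι_desc]
    exact @IsIso.of_isIso_fac_left _ _ _ _ _ _ _ _ h4 h6 w
  refine ⟨inv t ≫ b, isomorphic_distinguished _ hT _ ?_⟩
  refine Triangle.isoMk _ _ (Iso.refl _) (Iso.refl _) (asIso t).symm ?_ ?_ ?_
  · exact (Category.comp_id _).trans (Category.id_comp _).symm
  · show Sigma.desc i ≫ inv t = 𝟙 _ ≫ a
    rw [Category.id_comp, ht, Category.assoc, IsIso.hom_inv_id, Category.comp_id]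
  · show (inv t ≫ b) ≫ (𝟙 (∐ E))⟦(1 : ℤ)⟧' = inv t ≫ b
    rw [CategoryTheory.Functor.map_id, Category.comp_id]

end Hocolim

end Groth.Agent.Lib.Helper2.Glue
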