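import Groth.Agent.Lib.Helper2.Glue.Abstract
import Groth.Agent.Lib.Helper2.Kos.Extend
import Groth.Agent.Lib.Helper2.Kos.AffApprox

/-!
# Gluing objects of `D(O_X)` along a two-element open cover (helper2)

Instantiation of `Glue/Abstract` for a scheme `X = U ∪ V`.
-/

set_option autoImplicit false
set_option linter.style.haveILetI false
universe u
open CategoryTheory CategoryTheory.Limits CategoryTheory.Pretriangulated DerivedCategory
  AlgebraicGeometry

attribute [local instance] HasDerivedCategory.standard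

namespace Groth.Agent.Lib.Helper2.Glue

open Groth.Agent.Lib.Helper2.Aff Groth.Agent.Lib.Helper2.Stk Groth.Agent.Lib.Helper13
  AlgebraicGeometry.Scheme.Modules

attribute [local instance] Groth.Agent.Lib.Helper2.Stk.hasRpush

variable {X : Scheme.{u}}

/-- vanishing on an open versus supports of the cohomology sheaves -/
theorem isZero_restrictD_iff (W : X.Opens) (K : DCoh.D X) :
    IsZero ((DCoh.restrictD W.ι).obj K) ↔
      ∀ i : ℤ, CohB1.support (DCoh.HD K i) ⊆ ((W : Set X))ᶜ := by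
  constructor
  · intro hz i
    obtain ⟨e⟩ := OpenEquivSupp.nonempty_HD_restrictD_iso W.ι K i
    have hz' := ((DerivedCategory.homologyFunctor _ i).map_isZero hz).of_iso e.symm
    exact (QCohLoc.isZero_restrict_iff W _).1 hz'
  · exact ApproxOpen.isZero_restrictD_of_support W K

/-- vanishing on an open immersion propagates to smaller open immersions -/
theorem isZero_restrictD_of_range_le {Y Y₂ : Scheme.{u}} (j : Y ⟶ X) (j₂ : Y₂ ⟶ X)
    [IsOpenImmersion j] [IsOpenImmersion j₂] (h : Set.range j₂ ⊆ Set.range j) (K : DCoh.D X)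
    (hK : IsZero ((DCoh.restrictD j).obj K)) : IsZero ((DCoh.restrictD j₂).obj K) := by
  let l := IsOpenImmersion.lift j j₂ h
  have hl : l ≫ j = j₂ := IsOpenImmersion.lift_fac j j₂ h
  haveI : IsOpenImmersion (l ≫ j) := by rw [hl]; infer_instance
  haveI : IsOpenImmersion l := IsOpenImmersion.of_comp l j
  obtain ⟨c⟩ := PerfTri.nonempty_resD_comp l j j₂ hl.symm K
  exact ((DCoh.restrictD l).map_isZero hK).of_iso c.symm

/-- iterated restrictions -/
theorem isZero_restrictD_restrictD {Y Y' Y₂ : Scheme.{u}} (j : Y ⟶ X) (j' : Y' ⟶ Y)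
    (j₂ : Y₂ ⟶ X) [IsOpenImmersion j] [IsOpenImmersion j'] [IsOpenImmersion j₂]
    (h : Set.range (j' ≫ j) ⊆ Set.range j₂) (K : DCoh.D X)
    (hK : IsZero ((DCoh.restrictD j₂).obj K)) :
    IsZero ((DCoh.restrictD j').obj ((DCoh.restrictD j).obj K)) := by
  obtain ⟨c⟩ := PerfTri.nonempty_resD_comp j' j (j' ≫ j) rfl K
  exact (isZero_restrictD_of_range_le j₂ (j' ≫ j) h K hK).of_iso c

/-- if `E` vanishes on `f⁻¹V` then `Rf_* E` vanishes on `V` -/
theorem isZero_restrictD_Rpush {Y : Scheme.{u}} (f : Y ⟶ X) (V : X.Opens) (E : DCoh.D Y)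
    (h : IsZero ((DCoh.restrictD (f ⁻¹ᵁ V).ι).obj E)) :
    IsZero ((DCoh.restrictD V.ι).obj ((DCoh.Rpush f).obj E)) := by
  apply PerfLocal.isZero_of_isZero_homology
  intro i
  obtain ⟨e⟩ := OpenEquivSupp.nonempty_HD_restrictD_iso V.ι ((DCoh.Rpush f).obj E) i
  refine IsZero.of_iso ?_ e
  refine OpenEquivSupp.isZero_restrict_HD_Rpush f V E (fun m => ?_) i
  obtain ⟨e'⟩ := OpenEquivSupp.nonempty_HD_restrictD_iso (f ⁻¹ᵁ V).ι E m
  exact ((DerivedCategory.homologyFunctor _ m).map_isZero h).of_iso e'.symm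

/-- an object vanishing on both members of an open cover is zero -/
theorem isZero_of_cover (U V : X.Opens) (hcov : U ⊔ V = ⊤) (K : DCoh.D X)
    (hU : IsZero ((DCoh.restrictD U.ι).obj K)) (hV : IsZero ((DCoh.restrictD V.ι).obj K)) :
    IsZero K := by
  apply PerfLocal.isZero_of_isZero_homology
  intro i
  exact SuppOpen.isZero_of_support U V hcov _ ((isZero_restrictD_iff U K).1 hU i)
    ((isZero_restrictD_iff V K).1 hV i)

section Glue

variable (U V : X.Opens) (hcov : U ⊔ V = ⊤)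

include hcov in
/-- **Gluing in `D(O_X)`** along `X = U ∪ V` -/
theorem exists_glue_sch (A : DCoh.D (U : Scheme.{u})) (B : DCoh.D (V : Scheme.{u}))
    (E : DCoh.D X)
    (φ : (DCoh.restrictD (V.ι ⁻¹ᵁ U).ι).obj B ≅ (DCoh.restrictD (V.ι ⁻¹ᵁ U).ι).obj
      ((DCoh.restrictD V.ι).obj ((DCoh.Rpush U.ι).obj A)))
    (a : A ⟶ (DCoh.restrictD U.ι).obj E) (b : B ⟶ (DCoh.restrictD V.ι).obj E)
    (hab : (DCoh.restrictD (V.ι ⁻¹ᵁ U).ι).map b ≫ (DCoh.restrictD (V.ι ⁻¹ᵁ U).ι).map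
        ((DCoh.restrictD V.ι).map ((Corefl.adjOpen U.ι).unit.app E)) =
      φ.hom ≫ (DCoh.restrictD (V.ι ⁻¹ᵁ U).ι).map
        ((DCoh.restrictD V.ι).map ((DCoh.Rpush U.ι).map a))) :
    ∃ (R : DCoh.D X) (ρ : R ⟶ E) (θ : (DCoh.restrictD U.ι).obj R ≅ A)
      (_ : (DCoh.restrictD V.ι).obj R ≅ B), (DCoh.restrictD U.ι).map ρ = θ.hom ≫ a := by
  let adjU := Corefl.adjOpen U.ι
  let adjV := Corefl.adjOpen V.ι
  let adjk := Corefl.adjOpen (V.ι ⁻¹ᵁ U).ι
  haveI := OpenFF.isIso_counit U.ι adjU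
  haveI := OpenFF.isIso_counit V.ι adjV
  haveI := OpenFF.isIso_counit (V.ι ⁻¹ᵁ U).ι adjk
  obtain ⟨cs, tri⟩ := exists_isTriangulated_Rpush U.ι
  letI := cs
  have hWU : Set.range ((V.ι ⁻¹ᵁ U).ι ≫ V.ι) ⊆ Set.range U.ι := by
    rintro _ ⟨w, rfl⟩
    have hw : V.ι.base ((V.ι ⁻¹ᵁ U).ι.base w) ∈ U := w.2
    exact ⟨⟨_, hw⟩, rfl⟩
  refine exists_glue' adjU adjV adjk ?_ ?_ ?_ ?_ A B φ E a b hab
  · intro K h1 h2
    exact isZero_of_cover U V hcov K h1 h2
  · intro C hC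
    exact isZero_restrictD_Rpush V.ι U C hC
  · intro K hK
    refine isZero_restrictD_Rpush U.ι V _ ?_
    refine isZero_restrictD_restrictD U.ι (U.ι ⁻¹ᵁ V).ι V.ι ?_ K hK
    rintro _ ⟨w, rfl⟩
    have hw : U.ι.base ((U.ι ⁻¹ᵁ V).ι.base w) ∈ V := w.2
    exact ⟨⟨_, hw⟩, rfl⟩
  · intro K hK
    exact isZero_restrictD_restrictD V.ι (V.ι ⁻¹ᵁ U).ι U.ι hWU K hK

end Glue

end Groth.Agent.Lib.Helper2.Glue
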