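import Groth.Agent.Lib.Helper2.Glue.Step
import Groth.Agent.Lib.Helper2.Kos.Orth
import Groth.Agent.Lib.Helper2.Aff.RGammaRecol

/-!
# Koszul objects on affine schemes detect locality with respect to a quasi-compact open (helper2)

Scheme-level form of Stacks 36.15.2 for a scheme isomorphic to `Spec A`.
-/

set_option autoImplicit false
set_option linter.style.haveILetI false
universe u
open CategoryTheory CategoryTheory.Limits CategoryTheory.Pretriangulated DerivedCategory
  AlgebraicGeometry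

attribute [local instance] HasDerivedCategory.standard

namespace Groth.Agent.Lib.Helper2.Glue

open Groth.Agent.Lib.Helper18.DR Groth.Agent.Lib.Helper2.TExactIso Groth.Agent.Lib.Helper2.Aff
  Groth.Agent.Lib.Helper2.Stk Groth.Agent.Lib.Helper13 Groth.Agent.Lib.Helper2.Aff.AffModel
  Groth.Agent.Lib.Helper2.Kos

attribute [local instance] Groth.Agent.Lib.Helper2.Stk.hasRpush

section Model

variable {X : Scheme.{u}} {A : Type u} [CommRing A] (e : X ⟶ Spec (CommRingCat.of A)) [IsIso e]
  [PreservesFiniteLimits (tilde.functor (CommRingCat.of A))]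
  (U : X.Opens) (fs : List A) (hUc : ((U : Set X))ᶜ = e.base ⁻¹' zl {a | a ∈ fs})

theorem isPerfect_unitCx : DRing.IsPerfect A (Q.obj (unitCx A)) := by
  refine ⟨unitCx A, 0, 0, fun i hi => ?_, fun i => ?_, ⟨Iso.refl _⟩⟩
  · exact HomologicalComplex.isZero_single_obj_X _ _ _ _ (by omega)
  · by_cases hi : i = 0
    · subst hi
      let e' : (unitCx A).X 0 ≃ₗ[A] (ModuleCat.of A A) :=
        (HomologicalComplex.singleObjXSelf (ComplexShape.up ℤ) 0 (ModuleCat.of A A)).toLinearEquiv
      exact ⟨Module.Finite.equiv e'.symm, Module.Projective.of_equiv e'.symm⟩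
    · haveI : Subsingleton ((unitCx A).X i) :=
        ModuleCat.subsingleton_of_isZero (HomologicalComplex.isZero_single_obj_X _ _ _ _ hi)
      exact ⟨inferInstance, inferInstance⟩

/-- the Koszul object on `X` -/
noncomputable abbrev kos : DCoh.D X := (Tm e).obj (Q.obj (Koszul.koszul A fs))

theorem isPerfect_kos : DCoh.IsPerfect (kos e fs) :=
  (isPerfect_Tm_iff e _).2 (isPerfect_of_isKoszul isPerfect_unitCx (isKoszul_koszul fs))

include hUc in
theorem isZero_restrictD_kos : IsZero ((DCoh.restrictD U.ι).obj (kos e fs)) := by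
  have h := isKoszul_koszul fs
  have h1 : fs.map (· ^ 1) = fs := by
    induction fs with
    | nil => rfl
    | cons a l ih => simp
  have h' : IsKoszul (A := A) (Q.obj (unitCx A)) (fs.map (· ^ 1)) (Q.obj (Koszul.koszul A fs))
      (Q.map (can fs)) := by
    rw [h1]
    exact h
  exact isZero_restrictD_Tm_of_isKoszul e U fs hUc 1 h'

include hUc in
/-- **Koszul orthogonality implies locality** -/
theorem isIso_unit_of_orth (hU : IsCompact (U : Set X)) [QuasiSeparatedSpace X] (F : DCoh.D X)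
    (hF : DCoh.IsQCohD F) (h : ∀ (n : ℤ) (φ : (kos e fs)⟦n⟧ ⟶ F), φ = 0) :
    IsIso ((Corefl.adjOpen U.ι).unit.app F) := by
  haveI : CompactSpace ↥(U : Scheme.{u}) := isCompact_iff_compactSpace.1 hU
  haveI : QuasiCompact U.ι := quasiCompact_of_compactSpace U.ι
  haveI := hasRgammaZ U.ι
  let adj := Corefl.adjOpen U.ι
  obtain ⟨N, f, g, hT, hqN, hzN⟩ := exists_unit_fibre U adj F hF
  obtain ⟨hfull, hfaith, hess⟩ := Tm_full_faithful_essImage e
  haveI := hfull
  haveI := hfaith
  obtain ⟨N₀, ⟨εN⟩⟩ := (hess N).1 hqN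
  have hN₀ : ∀ (i : ℤ), ∀ a ∈ fs, FTors a ((H A i).obj N₀) := by
    intro i a ha
    refine ftors_of_support_Tm e N₀ εN i {a | a ∈ fs} a ha ?_
    rw [← hUc]
    exact support_HD_of_isZero_restrictD U N hzN i
  -- no maps from shifts of the Koszul object to `N`
  have hN0 : ∀ (n : ℤ) (φ : (kos e fs)⟦n⟧ ⟶ N), φ = 0 := by
    intro n φ
    have h0 : φ ≫ (Triangle.mk f (adj.unit.app F) g).invRotate.mor₂ = 0 := h n _
    obtain ⟨g', hg'⟩ := Triangle.coyoneda_exact₂ _ (inv_rot_of_distTriang _ hT) φ h0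
    have hz : IsZero ((DCoh.restrictD U.ι).obj ((kos e fs)⟦n⟧)) :=
      IsZero.of_iso ((shiftFunctor _ n).map_isZero (isZero_restrictD_kos e U fs hUc))
        (((DCoh.restrictD U.ι).commShiftIso n).app _)
    have hg0 : g' = 0 := RGammaRecol.hom_shift_Rpush_eq_zero U _ hz _ (-1) g'
    rw [hg', hg0]
    exact zero_comp
  have hN₀z : IsZero N₀ := by
    apply isZero_of_hom_unit_eq_zero
    refine hom_eq_zero_of_isKoszul (A := A) (l := fs) ?_ (isKoszul_koszul fs) ?_
    · intro a ha j
      exact tors_unit a N₀ j (hN₀ j a ha)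
    · intro n ψ
      refine hom_shift_eq_zero' _ _ n (fun φ₀ => ?_) ψ
      apply (Tm e).map_injective
      rw [Functor.map_zero]
      have := hN0 (-n) (((Tm e).commShiftIso (-n)).inv.app _ ≫ (Tm e).map φ₀ ≫ εN.hom)
      rw [← cancel_epi (((Tm e).commShiftIso (-n)).inv.app _), ← cancel_mono εN.hom,
        Category.assoc, this, comp_zero, zero_comp]
  have hN : IsZero N := ((Tm e).map_isZero hN₀z).of_iso εN.symm
  exact (Triangle.isZero₁_iff_isIso₂ _ hT).1 hN

end Model

section Affine

attribute [local instance] Groth.Agent.Lib.Helper14.preservesFiniteLimits_tilde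

/-- on an affine scheme, a quasi-compact open `W` admits a perfect object vanishing on `W` whose
right orthogonal in `D_QCoh` consists of `W`-local objects -/
theorem exists_koszul_affine (X : Scheme.{u}) [IsAffine X] (W : X.Opens)
    (hW : IsCompact (W : Set X)) :
    ∃ K : DCoh.D X, DCoh.IsPerfect K ∧ IsZero ((DCoh.restrictD W.ι).obj K) ∧
      ∀ F : DCoh.D X, DCoh.IsQCohD F → (∀ (n : ℤ) (φ : K⟦n⟧ ⟶ F), φ = 0) →
        IsIso ((Corefl.adjOpen W.ι).unit.app F) := by
  obtain ⟨fs, hfs⟩ := exists_list_compl_eq X W hW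
  let e : X ⟶ Spec (CommRingCat.of ↑Γ(X, ⊤)) := X.toSpecΓ
  haveI : IsIso e := inferInstanceAs (IsIso X.toSpecΓ)
  haveI : QuasiSeparatedSpace X := inferInstance
  have hUc : ((W : Set X))ᶜ = e.base ⁻¹' zl {a | a ∈ fs} := by
    rw [hfs]
    exact (X.toSpecΓ_preimage_zeroLocus _).symm
  exact ⟨kos e fs, isPerfect_kos e fs, isZero_restrictD_kos e W fs hUc,
    fun F hF h => isIso_unit_of_orth e W fs hUc hW F hF h⟩

end Affine

end Groth.Agent.Lib.Helper2.Glue
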