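import Groth.Agent.Lib.Helper2.Glue.Main

/-!
# An induction principle for quasi-compact quasi-separated schemes (helper2)

A property of schemes which is invariant under isomorphisms, holds for affine schemes, and
passes from a quasi-compact open `U` to `X = U ∪ V` with `V` affine and `U ∩ V` quasi-compact,
holds for all quasi-compact quasi-separated schemes.
-/

set_option autoImplicit false
set_option linter.style.haveILetI false
universe u
open CategoryTheory CategoryTheory.Limits AlgebraicGeometry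

namespace Groth.Agent.Lib.Helper2.Glue

theorem qcqs_induction_opens (P : Scheme.{u} → Prop)
    (hiso : ∀ {X Y : Scheme.{u}} (e : X ⟶ Y) [IsIso e], P Y → P X)
    (haff : ∀ (X : Scheme.{u}) [IsAffine X], P X)
    (hstep : ∀ (X : Scheme.{u}) (U V : X.Opens), IsCompact (U : Set X) → IsAffineOpen V →
      IsCompact ((U ⊓ V : X.Opens) : Set X) → U ⊔ V = ⊤ → P (U : Scheme.{u}) → P X)
    (X : Scheme.{u}) [QuasiSeparatedSpace X] (S : X.Opens) (hS : IsCompact (S : Set X)) :
    P (S : Scheme.{u}) := by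
  refine compact_open_induction_on (P := fun S : X.Opens => P (S : Scheme.{u})) S hS ?_ ?_
  · haveI : IsAffine ((⊥ : X.Opens) : Scheme.{u}) := isAffineOpen_bot X
    exact haff _
  · intro S hS U hSA
    let Y : X.Opens := S ⊔ U.1
    have hS' : IsCompact (((Y.ι ⁻¹ᵁ S : (Y : Scheme.{u}).Opens)) : Set (Y : Scheme.{u})) := by
      refine isCompact_preimage_ι S Y ?_
      have : S ⊓ Y = S := inf_sup_self
      rw [this]
      exact hS
    have hU' : IsAffineOpen (Y.ι ⁻¹ᵁ U.1) := by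
      refine U.2.preimage_of_isOpenImmersion Y.ι ?_
      rw [Scheme.Opens.opensRange_ι]
      exact le_sup_right
    have hSU : IsCompact ((S ⊓ U.1 : X.Opens) : Set X) := by
      rw [TopologicalSpace.Opens.coe_inf]
      exact QuasiSeparatedSpace.inter_isCompact _ _ S.isOpen hS U.1.isOpen U.2.isCompact
    have hSU' : IsCompact (((Y.ι ⁻¹ᵁ S ⊓ Y.ι ⁻¹ᵁ U.1 : (Y : Scheme.{u}).Opens)) :
        Set (Y : Scheme.{u})) := by
      have h1 := isCompact_preimage_ι (S ⊓ U.1) Y (by
        have : (S ⊓ U.1) ⊓ Y = S ⊓ U.1 := inf_eq_left.2 (inf_le_left.trans le_sup_left)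
        rw [this]
        exact hSU)
      exact h1
    have hcov : Y.ι ⁻¹ᵁ S ⊔ Y.ι ⁻¹ᵁ U.1 = ⊤ := by
      have : Y.ι ⁻¹ᵁ S ⊔ Y.ι ⁻¹ᵁ U.1 = Y.ι ⁻¹ᵁ Y := rfl
      rw [this, Scheme.Opens.ι_preimage_self]
    refine hstep (Y : Scheme.{u}) (Y.ι ⁻¹ᵁ S) (Y.ι ⁻¹ᵁ U.1) hS' hU' hSU' hcov ?_
    exact hiso (Scheme.Opens.isoOfLE (le_sup_left : S ≤ Y)).hom hSA

theorem qcqs_induction (P : Scheme.{u} → Prop)
    (hiso : ∀ {X Y : Scheme.{u}} (e : X ⟶ Y) [IsIso e], P Y → P X)
    (haff : ∀ (X : Scheme.{u}) [IsAffine X], P X)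
    (hstep : ∀ (X : Scheme.{u}) (U V : X.Opens), IsCompact (U : Set X) → IsAffineOpen V →
      IsCompact ((U ⊓ V : X.Opens) : Set X) → U ⊔ V = ⊤ → P (U : Scheme.{u}) → P X)
    (X : Scheme.{u}) [CompactSpace X] [QuasiSeparatedSpace X] : P X := by
  have h := qcqs_induction_opens P hiso haff hstep X ⊤ isCompact_univ
  exact hiso X.topIso.inv h

end Groth.Agent.Lib.Helper2.Glue
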