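import Groth.Agent.Lib.Helper2.Glue.AbstractGen
import Groth.Agent.Lib.Helper2.Glue.KosOrth
import Groth.Agent.Lib.Helper2.Glue.QcqsInduction

/-!
# Bondal–van den Bergh: `D_QCoh` of a qcqs scheme has a perfect generator (helper2)

Stacks 36.15.1.
-/

set_option autoImplicit false
set_option linter.style.haveILetI false
universe u
open CategoryTheory CategoryTheory.Limits CategoryTheory.Pretriangulated DerivedCategory
  AlgebraicGeometry ZeroObject

attribute [local instance] HasDerivedCategory.standard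

namespace Groth.Agent.Lib.Helper2.Glue

open Groth.Agent.Lib.Helper18.DR Groth.Agent.Lib.Helper2.TExactIso Groth.Agent.Lib.Helper2.Aff
  Groth.Agent.Lib.Helper2.Stk Groth.Agent.Lib.Helper13 Groth.Agent.Lib.Helper2.Aff.AffModel
  Groth.Agent.Lib.Helper2.Kos

attribute [local instance] Groth.Agent.Lib.Helper2.Stk.hasRpush

/-- `P` generates `D_QCoh(O_X)` -/
def IsGen {X : Scheme.{u}} (P : DCoh.D X) : Prop :=
  ∀ E : DCoh.D X, DCoh.IsQCohD E → (∀ (n : ℤ) (φ : P⟦n⟧ ⟶ E), φ = 0) → IsZero E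

/-- `D_QCoh(O_X)` has a perfect generator -/
def HasGen (X : Scheme.{u}) : Prop := ∃ P : DCoh.D X, DCoh.IsPerfect P ∧ IsGen P

theorem hasGen_of_iso {X Y : Scheme.{u}} (e : X ⟶ Y) [IsIso e] (h : HasGen Y) : HasGen X := by
  obtain ⟨P, hP, hgen⟩ := h
  refine ⟨(DCoh.restrictD e).obj P, PtFibre.isPerfect_restrict e hP, fun E hE hφ => ?_⟩
  let ε : (DCoh.restrictD e).obj ((DCoh.restrictD (inv e)).obj E) ≅ E :=
    (restrictDEquiv e).counitIso.app E
  have hE' : IsZero ((DCoh.restrictD (inv e)).obj E) := by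
    refine hgen _ (isQCohD_restrict (inv e) E hE) (fun n φ => ?_)
    have h1 := hφ n (((DCoh.restrictD e).commShiftIso n).inv.app P ≫ (DCoh.restrictD e).map φ ≫
      ε.hom)
    apply (DCoh.restrictD e).map_injective
    rw [Functor.map_zero]
    have h3 : (DCoh.restrictD e).map φ ≫ ε.hom = 0 := by
      rw [← cancel_epi (((DCoh.restrictD e).commShiftIso n).inv.app P), h1, comp_zero]
    rw [← cancel_mono ε.hom, h3, zero_comp]
  exact ((DCoh.restrictD e).map_isZero hE').of_iso ε.symm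

section Affine

attribute [local instance] Groth.Agent.Lib.Helper14.preservesFiniteLimits_tilde

theorem hasGen_affine (X : Scheme.{u}) [IsAffine X] : HasGen X := by
  let e : X ⟶ Spec (CommRingCat.of ↑Γ(X, ⊤)) := X.toSpecΓ
  haveI : IsIso e := inferInstanceAs (IsIso X.toSpecΓ)
  refine ⟨(Tm e).obj (Q.obj (unitCx ↑Γ(X, ⊤))), (isPerfect_Tm_iff e _).2 isPerfect_unitCx,
    fun E hE h => ?_⟩
  obtain ⟨hfull, hfaith, hess⟩ := Tm_full_faithful_essImage e
  haveI := hfull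
  haveI := hfaith
  obtain ⟨N₀, ⟨ε⟩⟩ := (hess E).1 hE
  have hN₀ : IsZero N₀ := by
    apply isZero_of_hom_unit_eq_zero
    intro n ψ
    refine hom_shift_eq_zero' _ _ n (fun φ₀ => ?_) ψ
    apply (Tm e).map_injective
    rw [Functor.map_zero]
    have := h (-n) (((Tm e).commShiftIso (-n)).inv.app _ ≫ (Tm e).map φ₀ ≫ ε.hom)
    rw [← cancel_epi (((Tm e).commShiftIso (-n)).inv.app _), ← cancel_mono ε.hom,
      Category.assoc, this, comp_zero, zero_comp]
  exact ((Tm e).map_isZero hN₀).of_iso ε.symm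

end Affine

theorem isPerfect_biprod {X : Scheme.{u}} {A B : DCoh.D X} (hA : DCoh.IsPerfect A)
    (hB : DCoh.IsPerfect B) : DCoh.IsPerfect (A ⊞ B) :=
  (PerfTri.two_of_three _ (binaryBiproductTriangle_distinguished A B)).2.1 hA hB

/-- the Bondal–van den Bergh step -/
theorem hasGen_step (X : Scheme.{u}) (U V : X.Opens) (_hU : IsCompact (U : Set X))
    (hV : IsAffineOpen V) (hUV : IsCompact ((U ⊓ V : X.Opens) : Set X)) (hcov : U ⊔ V = ⊤)
    (hGU : HasGen (U : Scheme.{u})) : HasGen X := by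
  obtain ⟨P₀, hP₀, hgen⟩ := hGU
  haveI : IsAffine (V : Scheme.{u}) := hV
  have hW := isCompact_preimage_ι U V hUV
  have hq0 : DCoh.IsQCohD (0 : DCoh.D X) := (Qcqs.devQCoh X).of_isZero (isZero_zero _)
  obtain ⟨R, ρ, θ, hR, -, -⟩ := step_glue U V hV hUV hcov Set.univ isClosed_univ (by simp) P₀ hP₀
    (fun i _ _ => trivial) 0 hq0 0
  obtain ⟨K, hK, hKW, hKorth⟩ := exists_koszul_affine (V : Scheme.{u}) (V.ι ⁻¹ᵁ U) hW
  let adjU := Corefl.adjOpen U.ι
  let adjV := Corefl.adjOpen V.ι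
  let adjk := Corefl.adjOpen (V.ι ⁻¹ᵁ U).ι
  haveI := OpenFF.isIso_counit U.ι adjU
  haveI := OpenFF.isIso_counit V.ι adjV
  haveI := OpenFF.isIso_counit (V.ι ⁻¹ᵁ U).ι adjk
  obtain ⟨cs, tri⟩ := exists_isTriangulated_Rpush U.ι
  letI := cs
  obtain ⟨csV, triV⟩ := exists_isTriangulated_Rpush V.ι
  letI := csV
  have hWU : Set.range ((V.ι ⁻¹ᵁ U).ι ≫ V.ι) ⊆ Set.range U.ι := by
    rintro _ ⟨w, rfl⟩
    have hw : V.ι.base ((V.ι ⁻¹ᵁ U).ι.base w) ∈ U := w.2
    exact ⟨⟨_, hw⟩, rfl⟩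
  have hK' : DCoh.IsPerfect ((DCoh.Rpush V.ι).obj K) := by
    refine PerfLocal.isPerfect_Rpush V K hK (((V.ι ⁻¹ᵁ U : (V : Scheme.{u}).Opens) :
      Set (V : Scheme.{u})))ᶜ ?_ ((isZero_restrictD_iff _ K).1 hKW)
    have him : (fun x : (V : Scheme.{u}) => V.ι.base x) ''
        (((V.ι ⁻¹ᵁ U : (V : Scheme.{u}).Opens) : Set (V : Scheme.{u})))ᶜ = ((U : Set X))ᶜ := by
      ext x
      constructor
      · rintro ⟨v, hv, rfl⟩
        exact hv
      · intro hx
        have hx' : x ∈ ((U ⊔ V : X.Opens) : Set X) := by rw [hcov]; trivial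
        rw [TopologicalSpace.Opens.coe_sup] at hx'
        rcases hx' with h | h
        · exact absurd h hx
        · exact ⟨⟨x, h⟩, hx, rfl⟩
    rw [him]
    exact U.isOpen.isClosed_compl
  refine ⟨R ⊞ (DCoh.Rpush V.ι).obj K, isPerfect_biprod hR hK', fun E hE hG => ?_⟩
  refine isZero_of_gen adjU adjV adjk ?_ ?_ ?_ ?_ (fun E : DCoh.D X => DCoh.IsQCohD E)
    (fun E : DCoh.D (U : Scheme.{u}) => DCoh.IsQCohD E)
    (fun E : DCoh.D (V : Scheme.{u}) => DCoh.IsQCohD E)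
    (fun E hE => isQCohD_restrict U.ι E hE) (fun E hE => isQCohD_restrict V.ι E hE)
    P₀ hgen K hKW hKorth R (biprod.inl ≫ θ.inv) (θ.hom ≫ biprod.fst) (by simp) E hE ?_ ?_
  · intro K h1 h2
    exact isZero_of_cover U V hcov K h1 h2
  · intro C hC
    exact isZero_restrictD_Rpush V.ι U C hC
  · intro K hK
    refine isZero_restrictD_Rpush U.ι V _ ?_
    refine isZero_restrictD_restrictD U.ι (U.ι ⁻¹ᵁ V).ι V.ι ?_ K hK
    rintro _ ⟨w, rfl⟩
    have hw : U.ι.base ((U.ι ⁻¹ᵁ V).ι.base w) ∈ V := w.2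
    exact ⟨⟨_, hw⟩, rfl⟩
  · intro K hK
    exact isZero_restrictD_restrictD V.ι (V.ι ⁻¹ᵁ U).ι U.ι hWU K hK
  · intro n φ
    have h0 := hG n ((biprod.fst : R ⊞ (DCoh.Rpush V.ι).obj K ⟶ R)⟦n⟧' ≫ φ)
    have h1 : φ = (biprod.inl : R ⟶ R ⊞ (DCoh.Rpush V.ι).obj K)⟦n⟧' ≫
        (biprod.fst : R ⊞ (DCoh.Rpush V.ι).obj K ⟶ R)⟦n⟧' ≫ φ := by
      rw [← Category.assoc, ← Functor.map_comp, biprod.inl_fst, CategoryTheory.Functor.map_id,
        Category.id_comp]
    rw [h1, h0, comp_zero]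
  · intro n φ
    have h0 := hG n ((biprod.snd : R ⊞ (DCoh.Rpush V.ι).obj K ⟶ _)⟦n⟧' ≫
      (((DCoh.Rpush V.ι).commShiftIso n).app K).inv ≫ φ)
    have h1 : (((DCoh.Rpush V.ι).commShiftIso n).app K).inv ≫ φ =
        (biprod.inr : (DCoh.Rpush V.ι).obj K ⟶ R ⊞ (DCoh.Rpush V.ι).obj K)⟦n⟧' ≫
        (biprod.snd : R ⊞ (DCoh.Rpush V.ι).obj K ⟶ _)⟦n⟧' ≫
          (((DCoh.Rpush V.ι).commShiftIso n).app K).inv ≫ φ := by
      rw [← Category.assoc, ← Functor.map_comp, biprod.inr_snd, CategoryTheory.Functor.map_id,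
        Category.id_comp]
    rw [h0, comp_zero] at h1
    rw [← cancel_epi (((DCoh.Rpush V.ι).commShiftIso n).app K).inv, h1, comp_zero]

/-- **Bondal–van den Bergh** -/
theorem hasGen_qcqs (X : Scheme.{u}) [CompactSpace X] [QuasiSeparatedSpace X] : HasGen X :=
  qcqs_induction HasGen (fun e _ h => hasGen_of_iso e h) (fun X _ => hasGen_affine X)
    hasGen_step X

end Groth.Agent.Lib.Helper2.Glue
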