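import Groth.Agent.Lib.Helper2.Glue.Main

/-!
# An induction principle for properties of quasi-compact open immersions (helper2)

A property of open immersions which holds for isomorphisms, is stable under composition and
holds for `U ⊆ U ∪ V` with `V` affine (inside quasi-separated schemes) holds for every
quasi-compact open of a quasi-compact quasi-separated scheme.
-/

set_option autoImplicit false
set_option linter.style.haveILetI false
universe u
open CategoryTheory CategoryTheory.Limits AlgebraicGeometry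

namespace Groth.Agent.Lib.Helper2.Glue

section

variable (PP : ∀ {Y Z : Scheme.{u}}, (Y ⟶ Z) → Prop)
  (hiso : ∀ {Y Z : Scheme.{u}} (e : Y ⟶ Z) [IsIso e], PP e)
  (hcomp : ∀ {Y' Y Z : Scheme.{u}} (j' : Y' ⟶ Y) (j : Y ⟶ Z) [IsOpenImmersion j']
    [IsOpenImmersion j] [CompactSpace Y'] [CompactSpace Y] [QuasiSeparatedSpace Z],
    PP j' → PP j → PP (j' ≫ j))
  (hcover : ∀ (Z : Scheme.{u}) [QuasiSeparatedSpace Z] (U V : Z.Opens), IsAffineOpen V →
    IsCompact (U : Set Z) → IsCompact ((U ⊓ V : Z.Opens) : Set Z) → U ⊔ V = ⊤ → PP U.ι)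

include hiso hcomp hcover

theorem openImm_homOfLE_sup (X : Scheme.{u}) [QuasiSeparatedSpace X] (W : X.Opens)
    (hW : IsCompact (W : Set X)) (V : X.affineOpens) (W' : X.Opens) (hW' : W' = W ⊔ V.1)
    (hle : W ≤ W') : PP (X.homOfLE hle) := by
  subst hW'
  let Y : X.Opens := W ⊔ V.1
  have hV' : IsAffineOpen (Y.ι ⁻¹ᵁ V.1) := by
    refine V.2.preimage_of_isOpenImmersion Y.ι ?_
    rw [Scheme.Opens.opensRange_ι]
    exact le_sup_right
  have hWV : IsCompact ((W ⊓ V.1 : X.Opens) : Set X) := by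
    rw [TopologicalSpace.Opens.coe_inf]
    exact QuasiSeparatedSpace.inter_isCompact _ _ W.isOpen hW V.1.isOpen V.2.isCompact
  have hWV' : IsCompact (((Y.ι ⁻¹ᵁ W ⊓ Y.ι ⁻¹ᵁ V.1 : (Y : Scheme.{u}).Opens)) :
      Set (Y : Scheme.{u})) := by
    have h1 := isCompact_preimage_ι (W ⊓ V.1) Y (by
      have : (W ⊓ V.1) ⊓ Y = W ⊓ V.1 := inf_eq_left.2 (inf_le_left.trans le_sup_left)
      rw [this]
      exact hWV)
    exact h1
  have hcov : Y.ι ⁻¹ᵁ W ⊔ Y.ι ⁻¹ᵁ V.1 = ⊤ := by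
    have : Y.ι ⁻¹ᵁ W ⊔ Y.ι ⁻¹ᵁ V.1 = Y.ι ⁻¹ᵁ Y := rfl
    rw [this, Scheme.Opens.ι_preimage_self]
  have hW'' : IsCompact ((Y.ι ⁻¹ᵁ W : (Y : Scheme.{u}).Opens) : Set (Y : Scheme.{u})) :=
    isCompact_preimage_ι W Y (by
      have : W ⊓ Y = W := inf_sup_self
      rw [this]
      exact hW)
  haveI : QuasiSeparatedSpace ↥(Y : Scheme.{u}) := Y.ι.isOpenEmbedding.quasiSeparatedSpace
  have h1 : PP (Y.ι ⁻¹ᵁ W).ι := hcover (Y : Scheme.{u}) _ _ hV' hW'' hWV' hcov
  have hY : IsCompact (Y : Set X) := by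
    show IsCompact ((W : Set X) ∪ (V.1 : Set X))
    exact hW.union V.2.isCompact
  haveI : CompactSpace (Y : Scheme.{u}) := isCompact_iff_compactSpace.1 hY
  haveI : CompactSpace ((Y.ι ⁻¹ᵁ W : (Y : Scheme.{u}).Opens) : Scheme.{u}) :=
    isCompact_iff_compactSpace.1 hW''
  haveI : CompactSpace (W : Scheme.{u}) := isCompact_iff_compactSpace.1 hW
  have h2 := hcomp (Scheme.Opens.isoOfLE hle).inv (Y.ι ⁻¹ᵁ W).ι (hiso _) h1
  have h3 : (Scheme.Opens.isoOfLE hle).inv ≫ (Y.ι ⁻¹ᵁ W).ι = X.homOfLE hle := by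
    rw [← cancel_mono Y.ι, Category.assoc, Scheme.Opens.isoOfLE_inv_ι, Scheme.homOfLE_ι]
  rw [← h3]
  exact h2

theorem openImm_homOfLE (X : Scheme.{u}) [QuasiSeparatedSpace X] (U : X.Opens)
    (hU : IsCompact (U : Set X)) (S : X.Opens) (hS : IsCompact (S : Set X)) :
    PP (X.homOfLE (le_sup_left : U ≤ U ⊔ S)) := by
  refine compact_open_induction_on
    (P := fun S : X.Opens => PP (X.homOfLE (le_sup_left : U ≤ U ⊔ S))) S hS ?_ ?_
  · haveI : IsIso (X.homOfLE (le_sup_left : U ≤ U ⊔ ⊥)) :=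
      ⟨X.homOfLE (le_of_eq (sup_bot_eq U) : U ⊔ ⊥ ≤ U), by
        rw [Scheme.homOfLE_homOfLE]
        exact X.homOfLE_rfl _, by
        rw [Scheme.homOfLE_homOfLE]
        exact X.homOfLE_rfl _⟩
    exact hiso _
  · intro S hS V hSA
    have hUS : IsCompact ((U ⊔ S : X.Opens) : Set X) := by
      show IsCompact ((U : Set X) ∪ (S : Set X))
      exact hU.union hS
    haveI : CompactSpace ((U ⊔ S : X.Opens) : Scheme.{u}) := isCompact_iff_compactSpace.1 hUS
    haveI : CompactSpace (U : Scheme.{u}) := isCompact_iff_compactSpace.1 hU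
    haveI : QuasiSeparatedSpace ↥((U ⊔ (S ⊔ V.1) : X.Opens) : Scheme.{u}) :=
      (U ⊔ (S ⊔ V.1) : X.Opens).ι.isOpenEmbedding.quasiSeparatedSpace
    have h2 := openImm_homOfLE_sup PP hiso hcomp hcover X (U ⊔ S) hUS V (U ⊔ (S ⊔ V.1))
      (sup_assoc _ _ _).symm (sup_le_sup_left le_sup_left U)
    have h3 := hcomp (X.homOfLE (le_sup_left : U ≤ U ⊔ S))
      (X.homOfLE (sup_le_sup_left le_sup_left U : U ⊔ S ≤ U ⊔ (S ⊔ V.1))) hSA h2
    rw [X.homOfLE_homOfLE] at h3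
    exact h3

/-- **induction principle for quasi-compact open immersions** -/
theorem openImm_ι (X : Scheme.{u}) [CompactSpace X] [QuasiSeparatedSpace X] (U : X.Opens)
    (hU : IsCompact (U : Set X)) : PP U.ι := by
  have h1 := openImm_homOfLE PP hiso hcomp hcover X U hU ⊤ isCompact_univ
  have htop : U ⊔ ⊤ = (⊤ : X.Opens) := sup_top_eq U
  haveI : IsIso (U ⊔ ⊤ : X.Opens).ι := by
    rw [htop]
    exact inferInstanceAs (IsIso X.topIso.hom)
  haveI : CompactSpace ((U ⊔ ⊤ : X.Opens) : Scheme.{u}) := by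
    rw [htop]
    exact isCompact_iff_compactSpace.1 isCompact_univ
  haveI : CompactSpace (U : Scheme.{u}) := isCompact_iff_compactSpace.1 hU
  have h2 := hcomp (X.homOfLE (le_sup_left : U ≤ U ⊔ ⊤)) (U ⊔ ⊤ : X.Opens).ι h1 (hiso _)
  rw [X.homOfLE_ι] at h2
  exact h2

end

end Groth.Agent.Lib.Helper2.Glue
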