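import Mathlib

/-!
# Gluing objects of triangulated categories along two "opens": abstract form (helper2)

Abstract setting: triangulated categories `T` ("`D(X)`"), `TU`, `TV`, `TW` with restriction
functors `jU : T ⥤ TU`, `jV : T ⥤ TV`, `k : TV ⥤ TW` having fully faithful right adjoints, and four
support-type axioms expressing `X = U ∪ V` and `W = U ∩ V ⊆ V`.  We glue an object `A` of `TU` and
an object `B` of `TV` along an isomorphism over `W`, together with maps to a fixed object `E`.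
-/

set_option autoImplicit false
universe v₁ v₂ u₁ u₂
open CategoryTheory CategoryTheory.Limits CategoryTheory.Pretriangulated

namespace Groth.Agent.Lib.Helper2.Glue

section Adj

variable {C : Type u₁} {D : Type u₂} [Category.{v₁} C] [Category.{v₂} D] [Preadditive C]
  [Preadditive D] [HasZeroObject C] [HasZeroObject D] [HasShift C ℤ] [HasShift D ℤ]
  [∀ n : ℤ, (shiftFunctor C n).Additive] [∀ n : ℤ, (shiftFunctor D n).Additive]
  [Pretriangulated C] [Pretriangulated D]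
  {F : C ⥤ D} {G : D ⥤ C} (adj : F ⊣ G)

include adj in
/-- maps from an object killed by `F` to an object in the image of `G` vanish -/
lemma hom_eq_zero_of_isZero_map [F.PreservesZeroMorphisms] {N : C} (hN : IsZero (F.obj N))
    {Y : D} (f : N ⟶ G.obj Y) : f = 0 := by
  apply (adj.homEquiv N Y).symm.injective
  exact hN.eq_of_src _ _

/-- maps into an object on which the unit is monic are detected by `F` -/
lemma eq_of_map_eq {X Λ : C} [Mono (adj.unit.app Λ)] (f g : X ⟶ Λ) (h : F.map f = F.map g) :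
    f = g := by
  rw [← cancel_mono (adj.unit.app Λ)]
  have hf : f ≫ adj.unit.app Λ = adj.unit.app X ≫ G.map (F.map f) :=
    (adj.unit.naturality f)
  have hg : g ≫ adj.unit.app Λ = adj.unit.app X ≫ G.map (F.map g) :=
    (adj.unit.naturality g)
  rw [hf, hg, h]

variable [IsIso adj.counit]

lemma isIso_map_unit (K : C) : IsIso (F.map (adj.unit.app K)) := by
  have h := adj.left_triangle_components K
  haveI : IsIso (F.map (adj.unit.app K) ≫ adj.counit.app (F.obj K)) := by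
    rw [h]
    exact IsIso.id _
  exact IsIso.of_isIso_comp_right _ (adj.counit.app (F.obj K))

variable [F.CommShift ℤ] [F.IsTriangulated]

/-- the cone of the unit is killed by `F` -/
lemma isZero_map_cone_unit {K C₁ : C} (c : G.obj (F.obj K) ⟶ C₁) (d : C₁ ⟶ K⟦(1 : ℤ)⟧)
    (hT : Triangle.mk (adj.unit.app K) c d ∈ distTriang C) : IsZero (F.obj C₁) := by
  have hT' := F.map_distinguished _ hT
  exact (Triangle.isZero₃_iff_isIso₁ _ hT').2 (isIso_map_unit adj K)

end Adj

section Glue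

variable {T : Type u₁} {TU TV TW : Type u₂}
  [Category.{v₁} T] [Category.{v₂} TU] [Category.{v₂} TV] [Category.{v₂} TW]
  [Preadditive T] [Preadditive TU] [Preadditive TV] [Preadditive TW]
  [HasZeroObject T] [HasZeroObject TU] [HasZeroObject TV] [HasZeroObject TW]
  [HasShift T ℤ] [HasShift TU ℤ] [HasShift TV ℤ] [HasShift TW ℤ]
  [∀ n : ℤ, (shiftFunctor T n).Additive] [∀ n : ℤ, (shiftFunctor TU n).Additive]
  [∀ n : ℤ, (shiftFunctor TV n).Additive] [∀ n : ℤ, (shiftFunctor TW n).Additive]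
  [Pretriangulated T] [Pretriangulated TU] [Pretriangulated TV] [Pretriangulated TW]
  {jU : T ⥤ TU} {jV : T ⥤ TV} {k : TV ⥤ TW} {RU : TU ⥤ T} {RV : TV ⥤ T} {Rk : TW ⥤ TV}
  [jU.CommShift ℤ] [jV.CommShift ℤ] [k.CommShift ℤ] [RU.CommShift ℤ]
  [jU.IsTriangulated] [jV.IsTriangulated] [k.IsTriangulated]
  (adjU : jU ⊣ RU) (adjV : jV ⊣ RV) (adjk : k ⊣ Rk)
  [IsIso adjU.counit] [IsIso adjV.counit] [IsIso adjk.counit]
  (ax1 : ∀ K : T, IsZero (jU.obj K) → IsZero (jV.obj K) → IsZero K)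
  (ax2 : ∀ C : TV, IsZero (k.obj C) → IsZero (jU.obj (RV.obj C)))
  (ax3 : ∀ K : T, IsZero (jV.obj K) → IsZero (jV.obj (RU.obj (jU.obj K))))
  (ax4 : ∀ K : T, IsZero (jU.obj K) → IsZero (k.obj (jV.obj K)))

include ax1 ax3 in
/-- objects supported off `V` are `U`-local -/
lemma isIso_unitU_of_isZero (K : T) (hK : IsZero (jV.obj K)) : IsIso (adjU.unit.app K) := by
  obtain ⟨C, c, d, hT⟩ := distinguished_cocone_triangle (adjU.unit.app K)
  have h1 : IsZero (jU.obj C) := isZero_map_cone_unit adjU c d hT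
  have h2 : IsZero (jV.obj C) :=
    Triangle.isZero₃_of_isZero₁₂ _ (jV.map_distinguished _ hT) hK (ax3 K hK)
  exact (Triangle.isZero₃_iff_isIso₁ _ hT).1 (ax1 C h1 h2)

include ax1 ax2 ax4 in
/-- objects supported off `U` are `V`-local -/
lemma isIso_unitV_of_isZero (K : T) (hK : IsZero (jU.obj K)) : IsIso (adjV.unit.app K) := by
  obtain ⟨C, c, d, hT⟩ := distinguished_cocone_triangle (adjV.unit.app K)
  have h1 : IsZero (jV.obj C) := isZero_map_cone_unit adjV c d hT
  have h2 : IsZero (jU.obj C) :=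
    Triangle.isZero₃_of_isZero₁₂ _ (jU.map_distinguished _ hT) hK (ax2 _ (ax4 K hK))
  exact (Triangle.isZero₃_iff_isIso₁ _ hT).1 (ax1 C h2 h1)

include adjU adjV ax1 ax3 in
/-- Lemma O: if `Y` receives no maps from objects supported off `U`, then neither does `jV Y`
from `jV` of such objects -/
lemma map_eq_zero_of_orth (Y : T) (hY : ∀ N : T, IsZero (jU.obj N) → ∀ f : N ⟶ Y, f = 0)
    (N : T) (hN : IsZero (jU.obj N)) (g : jV.obj N ⟶ jV.obj Y) : g = 0 := by
  obtain ⟨C, c, d, hT⟩ := distinguished_cocone_triangle (adjV.unit.app Y)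
  have hC : IsZero (jV.obj C) := isZero_map_cone_unit adjV c d hT
  haveI := isIso_unitU_of_isZero adjU ax1 ax3 C hC
  -- the adjoint map
  have h1 : adjV.homEquiv N (jV.obj Y) g ≫ c = 0 := by
    apply eq_of_map_eq adjU
    rw [Functor.map_zero]
    exact hN.eq_of_src _ _
  obtain ⟨f, hf⟩ := Triangle.coyoneda_exact₂ _ hT _ h1
  have hf0 : f = 0 := hY N hN f
  have h2 : adjV.homEquiv N (jV.obj Y) g = 0 := by
    rw [hf, hf0]
    exact zero_comp
  have h3 := (adjV.homEquiv N (jV.obj Y)).symm_apply_apply g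
  rw [Adjunction.homEquiv_counit, h2, Functor.map_zero, zero_comp] at h3
  exact h3.symm

include adjU adjV adjk ax1 ax2 ax3 in
/-- `jV (RU A)` is local for the inner open `W` -/
lemma isIso_unitk (A : TU) : IsIso (adjk.unit.app (jV.obj (RU.obj A))) := by
  obtain ⟨C₂, c₂, d, hT⟩ := distinguished_cocone_triangle (adjk.unit.app (jV.obj (RU.obj A)))
  have hkC : IsZero (k.obj C₂) := isZero_map_cone_unit adjk c₂ d hT
  have hN : IsZero (jU.obj (RV.obj C₂)) := ax2 C₂ hkC
  have hY : ∀ N : T, IsZero (jU.obj N) → ∀ f : N ⟶ (RU.obj A)⟦(1 : ℤ)⟧, f = 0 := by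
    intro N hN f
    have h0 : f ≫ ((RU.commShiftIso (1 : ℤ)).app A).inv = 0 :=
      hom_eq_zero_of_isZero_map adjU hN _
    rw [← cancel_mono ((RU.commShiftIso (1 : ℤ)).app A).inv, h0, zero_comp]
  have hd : d = 0 := by
    have h0 := map_eq_zero_of_orth adjU adjV ax1 ax3 ((RU.obj A)⟦(1 : ℤ)⟧) hY (RV.obj C₂) hN
      (adjV.counit.app C₂ ≫ d ≫ ((jV.commShiftIso (1 : ℤ)).app (RU.obj A)).inv)
    have h1 : d ≫ ((jV.commShiftIso (1 : ℤ)).app (RU.obj A)).inv = 0 := by
      rw [← cancel_epi (adjV.counit.app C₂), h0, comp_zero]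
    rw [← cancel_mono ((jV.commShiftIso (1 : ℤ)).app (RU.obj A)).inv, h1, zero_comp]
  obtain ⟨g, hg⟩ := Triangle.coyoneda_exact₃ _ hT (𝟙 C₂) (by
    show 𝟙 C₂ ≫ d = 0
    rw [Category.id_comp, hd])
  have hg0 : g = 0 := hom_eq_zero_of_isZero_map adjk hkC g
  have hz : IsZero C₂ := by
    rw [IsZero.iff_id_eq_zero, hg, hg0]
    exact zero_comp
  exact (Triangle.isZero₃_iff_isIso₁ _ hT).1 hz

include adjU adjV adjk ax1 ax2 ax3 ax4 in
/-- **Gluing** an object on `U` and an object on `V` along an isomorphism over `W`, with maps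
to a fixed object. -/
theorem exists_glue (A : TU) (B : TV) (φ : k.obj B ≅ k.obj (jV.obj (RU.obj A)))
    (E : T) (a : A ⟶ jU.obj E) (b : B ⟶ jV.obj E)
    (hab : k.map b ≫ k.map (jV.map (adjU.unit.app E)) = φ.hom ≫ k.map (jV.map (RU.map a))) :
    ∃ (R : T) (r : R ⟶ RU.obj A) (ρ : R ⟶ E) (_ : jV.obj R ≅ B), IsIso (jU.map r) ∧
      ρ ≫ adjU.unit.app E = r ≫ RU.map a := by
  obtain ⟨CB, c, e, hTB⟩ := distinguished_cocone_triangle (adjk.unit.app B)
  have hkCB : IsZero (k.obj CB) := isZero_map_cone_unit adjk c e hTB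
  haveI hloc : IsIso (adjk.unit.app (jV.obj (RU.obj A))) :=
    isIso_unitk adjU adjV adjk ax1 ax2 ax3 A
  let μ : jV.obj (RU.obj A) ⟶ Rk.obj (k.obj B) :=
    adjk.unit.app (jV.obj (RU.obj A)) ≫ Rk.map φ.inv
  haveI : IsIso μ := inferInstance
  let Θ₀ : jV.obj (RU.obj A) ⟶ CB := μ ≫ c
  let Θ : RU.obj A ⟶ RV.obj CB := adjV.homEquiv _ _ Θ₀
  obtain ⟨R, r, s, hTR⟩ := distinguished_cocone_triangle₁ Θ
  have hjUr : IsIso (jU.map r) :=
    (Triangle.isZero₃_iff_isIso₁ _ (jU.map_distinguished _ hTR)).1 (ax2 CB hkCB)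
  have hΘ : jV.map Θ ≫ adjV.counit.app CB = Θ₀ := by
    have h := (adjV.homEquiv _ _).symm_apply_apply Θ₀
    rw [Adjunction.homEquiv_counit] at h
    exact h
  have hT₁ : Triangle.mk (jV.map r) Θ₀ (inv (adjV.counit.app CB) ≫
      jV.map s ≫ (jV.commShiftIso (1 : ℤ)).hom.app R) ∈ distTriang TV := by
    refine isomorphic_distinguished _ (jV.map_distinguished _ hTR) _ ?_
    refine Triangle.isoMk _ _ (Iso.refl _) (Iso.refl _) (asIso (adjV.counit.app CB)).symm ?_ ?_ ?_
    · show jV.map r ≫ 𝟙 _ = 𝟙 _ ≫ jV.map r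
      rw [Category.comp_id, Category.id_comp]
    · show Θ₀ ≫ inv (adjV.counit.app CB) = 𝟙 _ ≫ jV.map Θ
      rw [Category.id_comp, ← hΘ, Category.assoc, IsIso.hom_inv_id, Category.comp_id]
    · show (inv (adjV.counit.app CB) ≫ jV.map s ≫ (jV.commShiftIso (1 : ℤ)).hom.app R) ≫
        (𝟙 (jV.obj R))⟦(1 : ℤ)⟧' = inv (adjV.counit.app CB) ≫
          jV.map s ≫ (jV.commShiftIso (1 : ℤ)).hom.app R
      rw [CategoryTheory.Functor.map_id]
      exact Category.comp_id _
  obtain ⟨σ, hσ₁, hσ₃⟩ : ∃ σ : jV.obj R ⟶ B, jV.map r ≫ μ = σ ≫ adjk.unit.app B ∧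
      (inv (adjV.counit.app CB) ≫ jV.map s ≫ (jV.commShiftIso (1 : ℤ)).hom.app R) ≫
        σ⟦(1 : ℤ)⟧' = 𝟙 CB ≫ e :=
    complete_distinguished_triangle_morphism₁ _ _ hT₁ hTB μ (𝟙 CB) (by
    show Θ₀ ≫ 𝟙 CB = μ ≫ c
    rw [Category.comp_id])
  have hσ₁' : jV.map r ≫ μ = σ ≫ adjk.unit.app B := hσ₁
  let Φ : Triangle.mk (jV.map r) Θ₀ (inv (adjV.counit.app CB) ≫
      jV.map s ≫ (jV.commShiftIso (1 : ℤ)).hom.app R) ⟶ Triangle.mk (adjk.unit.app B) c e :=
    { hom₁ := σ
      hom₂ := μ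
      hom₃ := 𝟙 CB
      comm₁ := hσ₁
      comm₂ := by
        show Θ₀ ≫ 𝟙 CB = μ ≫ c
        rw [Category.comp_id]
      comm₃ := hσ₃ }
  haveI : IsIso σ := isIso₁_of_isIso₂₃ Φ hT₁ hTB (inferInstanceAs (IsIso μ))
    (inferInstanceAs (IsIso (𝟙 CB)))
  -- over `W`
  have hkσ : k.map σ = k.map (jV.map r) ≫ φ.inv := by
    have h1 := congrArg (fun f => k.map f ≫ adjk.counit.app (k.obj B)) hσ₁'
    simp only [Functor.map_comp, Category.assoc] at h1
    rw [adjk.left_triangle_components B, Category.comp_id] at h1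
    rw [← h1]
    have h2 : k.map (Rk.map φ.inv) ≫ adjk.counit.app (k.obj B) =
        adjk.counit.app (k.obj (jV.obj (RU.obj A))) ≫ φ.inv := adjk.counit_naturality φ.inv
    show k.map (jV.map r) ≫
      k.map (adjk.unit.app (jV.obj (RU.obj A)) ≫ Rk.map φ.inv) ≫ adjk.counit.app (k.obj B) =
      k.map (jV.map r) ≫ φ.inv
    have h3 : k.map (adjk.unit.app (jV.obj (RU.obj A))) ≫
        adjk.counit.app (k.obj (jV.obj (RU.obj A))) = 𝟙 _ := adjk.left_triangle_components _
    rw [Functor.map_comp, Category.assoc, h2, ← Category.assoc (k.map (adjk.unit.app _)),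
      h3, Category.id_comp]
  -- the lifting
  obtain ⟨CE, cE, dE, hTE⟩ := distinguished_cocone_triangle (adjU.unit.app E)
  have hjUCE : IsZero (jU.obj CE) := isZero_map_cone_unit adjU cE dE hTE
  haveI := isIso_unitV_of_isZero adjV ax1 ax2 ax4 CE hjUCE
  haveI hlocE : IsIso (adjk.unit.app (jV.obj (RU.obj (jU.obj E)))) :=
    isIso_unitk adjU adjV adjk ax1 ax2 ax3 (jU.obj E)
  have hclaim : jV.map r ≫ jV.map (RU.map a) = σ ≫ b ≫ jV.map (adjU.unit.app E) := by
    apply eq_of_map_eq adjk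
    simp only [Functor.map_comp]
    rw [hkσ, Category.assoc, hab, Iso.inv_hom_id_assoc]
  have hzero : (r ≫ RU.map a) ≫ cE = 0 := by
    apply eq_of_map_eq adjV
    rw [Functor.map_zero, Functor.map_comp, Functor.map_comp, hclaim, Category.assoc,
      Category.assoc, ← Functor.map_comp]
    have h0 : adjU.unit.app E ≫ cE = 0 := comp_distTriang_mor_zero₁₂ _ hTE
    rw [h0, Functor.map_zero, comp_zero, comp_zero]
  obtain ⟨ρ, hρ⟩ := Triangle.coyoneda_exact₂ _ hTE (r ≫ RU.map a) hzero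
  exact ⟨R, r, ρ, asIso σ, hjUr, hρ.symm⟩

include adjU ax4 in
/-- over the inner open `W ⊆ U`, the unit of `U` is invertible -/
lemma isIso_map_map_unit (E : T) : IsIso (k.map (jV.map (adjU.unit.app E))) := by
  obtain ⟨C, c, d, hT⟩ := distinguished_cocone_triangle (adjU.unit.app E)
  have h1 : IsZero (jU.obj C) := isZero_map_cone_unit adjU c d hT
  have h2 := ax4 C h1
  have hT' := k.map_distinguished _ (jV.map_distinguished _ hT)
  exact (Triangle.isZero₃_iff_isIso₁ _ hT').1 h2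

include adjU in
omit [jU.CommShift ℤ] [jU.IsTriangulated] [RU.CommShift ℤ] in
/-- reading off the restriction to `U` of a map built by adjunction -/
lemma map_eq_of_comp_unit {R E : T} {A : TU} (r : R ⟶ RU.obj A) (ρ : R ⟶ E) (a : A ⟶ jU.obj E)
    (h : ρ ≫ adjU.unit.app E = r ≫ RU.map a) :
    jU.map ρ = (jU.map r ≫ adjU.counit.app A) ≫ a := by
  have h1 : jU.map ρ = jU.map (ρ ≫ adjU.unit.app E) ≫ adjU.counit.app (jU.obj E) := by
    rw [Functor.map_comp, Category.assoc]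
    have := adjU.left_triangle_components E
    rw [this, Category.comp_id]
  rw [h1, h, Functor.map_comp, Category.assoc, Category.assoc]
  congr 1
  exact adjU.counit_naturality a

include adjU adjV adjk ax1 ax2 ax3 ax4 in
/-- **Gluing**, final form. -/
theorem exists_glue' (A : TU) (B : TV) (φ : k.obj B ≅ k.obj (jV.obj (RU.obj A)))
    (E : T) (a : A ⟶ jU.obj E) (b : B ⟶ jV.obj E)
    (hab : k.map b ≫ k.map (jV.map (adjU.unit.app E)) = φ.hom ≫ k.map (jV.map (RU.map a))) :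
    ∃ (R : T) (ρ : R ⟶ E) (θ : jU.obj R ≅ A) (_ : jV.obj R ≅ B), jU.map ρ = θ.hom ≫ a := by
  obtain ⟨R, r, ρ, σ, hr, hρ⟩ := exists_glue adjU adjV adjk ax1 ax2 ax3 ax4 A B φ E a b hab
  haveI := hr
  exact ⟨R, ρ, asIso (jU.map r) ≪≫ asIso (adjU.counit.app A), σ,
    map_eq_of_comp_unit adjU r ρ a hρ⟩

end Glue

end Groth.Agent.Lib.Helper2.Glue
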