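import Groth.Agent.Lib.Helper2.Glue.Abstract

/-!
# Generators and gluing: the abstract Bondal–van den Bergh step (helper2)

In the abstract setting of `Glue/Abstract`: if `P₀` generates (a class of objects of) `TU`,
`P₀` is a retract of the restriction of `Q`, and `K` on `V` detects locality with respect to
the inner open, then `Q` and `RV K` together detect zero objects on `T`.
-/

set_option autoImplicit false
set_option linter.style.haveILetI false
universe v₁ v₂ u₁ u₂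
open CategoryTheory CategoryTheory.Limits CategoryTheory.Pretriangulated

namespace Groth.Agent.Lib.Helper2.Glue

section Gen

variable {T : Type u₁} {TU TV TW : Type u₂}
  [Category.{v₁} T] [Category.{v₂} TU] [Category.{v₂} TV] [Category.{v₂} TW]
  [Preadditive T] [Preadditive TU] [Preadditive TV] [Preadditive TW]
  [HasZeroObject T] [HasZeroObject TU] [HasZeroObject TV] [HasZeroObject TW]
  [HasShift T ℤ] [HasShift TU ℤ] [HasShift TV ℤ] [HasShift TW ℤ]
  [∀ n : ℤ, (shiftFunctor T n).Additive] [∀ n : ℤ, (shiftFunctor TU n).Additive]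
  [∀ n : ℤ, (shiftFunctor TV n).Additive] [∀ n : ℤ, (shiftFunctor TW n).Additive]
  [Pretriangulated T] [Pretriangulated TU] [Pretriangulated TV] [Pretriangulated TW]
  {jU : T ⥤ TU} {jV : T ⥤ TV} {k : TV ⥤ TW} {RU : TU ⥤ T} {RV : TV ⥤ T} {Rk : TW ⥤ TV}
  [jU.CommShift ℤ] [jV.CommShift ℤ] [k.CommShift ℤ] [RU.CommShift ℤ]
  [jU.IsTriangulated] [jV.IsTriangulated] [k.IsTriangulated]
  (adjU : jU ⊣ RU) (adjV : jV ⊣ RV) (adjk : k ⊣ Rk)
  [IsIso adjU.counit] [IsIso adjV.counit] [IsIso adjk.counit]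
  (ax1 : ∀ K : T, IsZero (jU.obj K) → IsZero (jV.obj K) → IsZero K)
  (ax2 : ∀ C : TV, IsZero (k.obj C) → IsZero (jU.obj (RV.obj C)))
  (ax3 : ∀ K : T, IsZero (jV.obj K) → IsZero (jV.obj (RU.obj (jU.obj K))))
  (ax4 : ∀ K : T, IsZero (jU.obj K) → IsZero (k.obj (jV.obj K)))

include adjk in
/-- maps from objects killed by `k` to `k`-local objects vanish -/
lemma hom_eq_zero_of_local {N X : TV} (hN : IsZero (k.obj N)) [IsIso (adjk.unit.app X)]
    (g : N ⟶ X) : g = 0 := by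
  have h1 : g ≫ adjk.unit.app X = 0 := hom_eq_zero_of_isZero_map adjk hN _
  rw [← cancel_mono (adjk.unit.app X), h1, zero_comp]

include adjk in
/-- in a distinguished triangle whose first two vertices are `k`-local, a third vertex killed by
`k` vanishes -/
lemma isZero_of_local_triangle (Tr : Triangle TV) (hTr : Tr ∈ distTriang TV)
    [IsIso (adjk.unit.app Tr.obj₁)] [IsIso (adjk.unit.app Tr.obj₂)]
    (h3 : IsZero (k.obj Tr.obj₃)) : IsZero Tr.obj₃ := by
  -- the connecting map vanishes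
  have hd : Tr.mor₃ = 0 := by
    let e : (Tr.obj₃⟦(-1 : ℤ)⟧)⟦(1 : ℤ)⟧ ≅ Tr.obj₃ := (shiftEquiv TV (1 : ℤ)).counitIso.app _
    obtain ⟨g, hg⟩ := (shiftFunctor TV (1 : ℤ)).map_surjective (e.hom ≫ Tr.mor₃)
    have hN : IsZero (k.obj (Tr.obj₃⟦(-1 : ℤ)⟧)) :=
      ((shiftFunctor TW (-1 : ℤ)).map_isZero h3).of_iso ((k.commShiftIso (-1 : ℤ)).app Tr.obj₃)
    have hg0 : g = 0 := hom_eq_zero_of_local adjk hN g
    rw [hg0, Functor.map_zero] at hg
    rw [← cancel_epi e.hom, ← hg, comp_zero]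
  obtain ⟨s, hs⟩ := Triangle.coyoneda_exact₃ _ hTr (𝟙 Tr.obj₃) (by rw [hd, comp_zero])
  have hs0 : s = 0 := hom_eq_zero_of_local adjk h3 s
  rw [IsZero.iff_id_eq_zero, hs, hs0]
  exact zero_comp

include adjU adjV adjk ax1 ax2 ax3 ax4 in
/-- **The abstract Bondal–van den Bergh step.** -/
theorem isZero_of_gen (qT : T → Prop) (qU : TU → Prop) (qV : TV → Prop)
    (hqU : ∀ E, qT E → qU (jU.obj E)) (hqV : ∀ E, qT E → qV (jV.obj E))
    (P₀ : TU) (hP₀ : ∀ F, qU F → (∀ (n : ℤ) (φ : P₀⟦n⟧ ⟶ F), φ = 0) → IsZero F)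
    (K : TV) (hKW : IsZero (k.obj K))
    (hK : ∀ F, qV F → (∀ (n : ℤ) (φ : K⟦n⟧ ⟶ F), φ = 0) → IsIso (adjk.unit.app F))
    (Q : T) (i : P₀ ⟶ jU.obj Q) (p : jU.obj Q ⟶ P₀) (hip : i ≫ p = 𝟙 P₀)
    (E : T) (hE : qT E) (hQE : ∀ (n : ℤ) (φ : Q⟦n⟧ ⟶ E), φ = 0)
    (hKE : ∀ (n : ℤ) (φ : RV.obj (K⟦n⟧) ⟶ E), φ = 0) : IsZero E := by
  -- Step 1: no maps from shifts of `K` to `jV E`
  have step1 : ∀ (n : ℤ) (ψ : K⟦n⟧ ⟶ jV.obj E), ψ = 0 := by
    intro n ψ
    obtain ⟨C, c, d, hT⟩ := distinguished_cocone_triangle (adjV.unit.app E)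
    have hC : IsZero (jV.obj C) := isZero_map_cone_unit adjV c d hT
    haveI := isIso_unitU_of_isZero adjU ax1 ax3 C hC
    have hkn : IsZero (k.obj (K⟦n⟧)) :=
      ((shiftFunctor TW n).map_isZero hKW).of_iso ((k.commShiftIso n).app K)
    have hz : IsZero (jU.obj (RV.obj (K⟦n⟧))) := ax2 _ hkn
    have h1 : RV.map ψ ≫ c = 0 := by
      apply eq_of_map_eq adjU
      rw [Functor.map_zero]
      exact hz.eq_of_src _ _
    obtain ⟨g', hg'⟩ := Triangle.coyoneda_exact₂ _ hT (RV.map ψ) h1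
    have hRψ : RV.map ψ = 0 := by
      rw [hg', hKE n g']
      exact zero_comp
    have h2 : jV.map (RV.map ψ) ≫ adjV.counit.app (jV.obj E) =
        adjV.counit.app (K⟦n⟧) ≫ ψ := adjV.counit_naturality ψ
    rw [hRψ, Functor.map_zero, zero_comp] at h2
    rw [← cancel_epi (adjV.counit.app (K⟦n⟧)), ← h2, comp_zero]
  -- Step 2: `jV E` is local for the inner open
  haveI hloc : IsIso (adjk.unit.app (jV.obj E)) := hK _ (hqV E hE) step1
  -- Step 3: `E` is `U`-local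
  haveI hEloc : IsIso (adjU.unit.app E) := by
    obtain ⟨C', c', d', hT'⟩ := distinguished_cocone_triangle (adjU.unit.app E)
    have hU : IsZero (jU.obj C') := isZero_map_cone_unit adjU c' d' hT'
    haveI := isIso_unitk adjU adjV adjk ax1 ax2 ax3 (jU.obj E)
    haveI := isIso_map_map_unit (k := k) (jV := jV) adjU ax4 E
    have hTV := jV.map_distinguished _ hT'
    have hkC : IsZero (k.obj (jV.obj C')) :=
      (Triangle.isZero₃_iff_isIso₁ _ (k.map_distinguished _ hTV)).2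
        (inferInstanceAs (IsIso (k.map (jV.map (adjU.unit.app E)))))
    haveI : IsIso (adjk.unit.app (jV.mapTriangle.obj (Triangle.mk (adjU.unit.app E) c' d')).obj₁) :=
      hloc
    haveI : IsIso (adjk.unit.app (jV.mapTriangle.obj (Triangle.mk (adjU.unit.app E) c' d')).obj₂) :=
      isIso_unitk adjU adjV adjk ax1 ax2 ax3 (jU.obj E)
    have hV : IsZero (jV.obj C') := isZero_of_local_triangle adjk _ hTV hkC
    exact (Triangle.isZero₃_iff_isIso₁ _ hT').1 (ax1 C' hU hV)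
  -- Step 4: no maps from shifts of `P₀` to `jU E`
  have step4 : ∀ (n : ℤ) (φ : P₀⟦n⟧ ⟶ jU.obj E), φ = 0 := by
    intro n φ
    have h2 : adjU.homEquiv _ _ ((jU.commShiftIso n).hom.app Q ≫ p⟦n⟧' ≫ φ) = 0 := by
      have h2' := hQE n (adjU.homEquiv _ _ ((jU.commShiftIso n).hom.app Q ≫ p⟦n⟧' ≫ φ) ≫
        inv (adjU.unit.app E))
      rw [← cancel_mono (inv (adjU.unit.app E)), h2', zero_comp]
    have h1 : (jU.commShiftIso n).hom.app Q ≫ p⟦n⟧' ≫ φ = 0 := by
      have h1' := (adjU.homEquiv _ _).symm_apply_apply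
        ((jU.commShiftIso n).hom.app Q ≫ p⟦n⟧' ≫ φ)
      rw [h2, Adjunction.homEquiv_counit, Functor.map_zero, zero_comp] at h1'
      exact h1'.symm
    have h3 : p⟦n⟧' ≫ φ = 0 := by
      rw [← cancel_epi ((jU.commShiftIso n).hom.app Q), h1, comp_zero]
    have h4 : φ = (i ≫ p)⟦n⟧' ≫ φ := by
      rw [hip, CategoryTheory.Functor.map_id, Category.id_comp]
    rw [h4, Functor.map_comp, Category.assoc, h3, comp_zero]
  -- Step 5
  have hjUE : IsZero (jU.obj E) := hP₀ _ (hqU E hE) step4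
  have hη : adjU.unit.app E = 0 := hom_eq_zero_of_isZero_map adjU hjUE _
  have hid : 𝟙 E = adjU.unit.app E ≫ inv (adjU.unit.app E) := (IsIso.hom_inv_id _).symm
  have hz : adjU.unit.app E ≫ inv (adjU.unit.app E) = 0 := by
    generalize inv (adjU.unit.app E) = w
    rw [hη, zero_comp]
  rw [IsZero.iff_id_eq_zero, hid, hz]

end Gen

end Groth.Agent.Lib.Helper2.Glue
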