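import Groth.Agent.Lib.Helper18.DRPerf
import Groth.Agent.Lib.Helper18.DRProj

/-!
# Countability of `Hom` groups out of perfect complexes (helper2)

* `countable_hom_of_triangle`, `countable_hom_of_triangle'`: two out of three for countability of
  `Hom` groups along distinguished triangles;
* `countable_hom_of_isPerfect`: over a ring `R`, if `P ∈ D(R)` is perfect and all `H^n(M)` are
  countable then `Hom(P, M)` is countable.
-/

set_option autoImplicit false
universe v u
open CategoryTheory CategoryTheory.Limits CategoryTheory.Pretriangulated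

namespace Groth.Agent.Lib.Helper2.Glue.Cnt

section Abstract

variable {C : Type u} [Category.{v} C] [Preadditive C] [HasZeroObject C] [HasShift C ℤ]
  [∀ n : ℤ, (shiftFunctor C n).Additive] [Pretriangulated C]

/-- countability of `Hom(T₂, L)` from `Hom(T₁, L)` and `Hom(T₃, L)` -/
theorem countable_hom_of_triangle (T : Triangle C) (hT : T ∈ distTriang C) (L : C)
    (h₁ : Countable (T.obj₁ ⟶ L)) (h₃ : Countable (T.obj₃ ⟶ L)) : Countable (T.obj₂ ⟶ L) := by
  classical
  let s : (T.obj₁ ⟶ L) → (T.obj₂ ⟶ L) := fun a =>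
    if h : ∃ g : T.obj₂ ⟶ L, T.mor₁ ≫ g = a then h.choose else 0
  have hs : ∀ g : T.obj₂ ⟶ L, T.mor₁ ≫ s (T.mor₁ ≫ g) = T.mor₁ ≫ g := by
    intro g
    have h : ∃ g' : T.obj₂ ⟶ L, T.mor₁ ≫ g' = T.mor₁ ≫ g := ⟨g, rfl⟩
    simp only [s, dif_pos h]
    exact h.choose_spec
  have hex : ∀ g : T.obj₂ ⟶ L, ∃ h : T.obj₃ ⟶ L, g - s (T.mor₁ ≫ g) = T.mor₂ ≫ h := by
    intro g
    exact Triangle.yoneda_exact₂ T hT (g - s (T.mor₁ ≫ g))
      (by rw [Preadditive.comp_sub, hs, sub_self])
  let f : (T.obj₂ ⟶ L) → (T.obj₁ ⟶ L) × (T.obj₃ ⟶ L) := fun g => (T.mor₁ ≫ g, (hex g).choose)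
  have hf : Function.Injective f := by
    intro g g' hgg'
    have e1 : T.mor₁ ≫ g = T.mor₁ ≫ g' := congrArg Prod.fst hgg'
    have e2 : (hex g).choose = (hex g').choose := congrArg Prod.snd hgg'
    have e3 := (hex g).choose_spec
    have e4 := (hex g').choose_spec
    rw [e2, ← e4, e1] at e3
    exact sub_left_injective e3
  exact hf.countable

/-- countability of `Hom(E, T₂)` from `Hom(E, T₁)` and `Hom(E, T₃)` -/
theorem countable_hom_of_triangle' (T : Triangle C) (hT : T ∈ distTriang C) (E : C)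
    (h₁ : Countable (E ⟶ T.obj₁)) (h₃ : Countable (E ⟶ T.obj₃)) : Countable (E ⟶ T.obj₂) := by
  classical
  let s : (E ⟶ T.obj₃) → (E ⟶ T.obj₂) := fun a =>
    if h : ∃ g : E ⟶ T.obj₂, g ≫ T.mor₂ = a then h.choose else 0
  have hs : ∀ g : E ⟶ T.obj₂, s (g ≫ T.mor₂) ≫ T.mor₂ = g ≫ T.mor₂ := by
    intro g
    have h : ∃ g' : E ⟶ T.obj₂, g' ≫ T.mor₂ = g ≫ T.mor₂ := ⟨g, rfl⟩
    simp only [s, dif_pos h]
    exact h.choose_spec
  have hex : ∀ g : E ⟶ T.obj₂, ∃ h : E ⟶ T.obj₁, g - s (g ≫ T.mor₂) = h ≫ T.mor₁ := by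
    intro g
    exact Triangle.coyoneda_exact₂ T hT (g - s (g ≫ T.mor₂))
      (by rw [Preadditive.sub_comp, hs, sub_self])
  let f : (E ⟶ T.obj₂) → (E ⟶ T.obj₃) × (E ⟶ T.obj₁) := fun g => (g ≫ T.mor₂, (hex g).choose)
  have hf : Function.Injective f := by
    intro g g' hgg'
    have e1 : g ≫ T.mor₂ = g' ≫ T.mor₂ := congrArg Prod.fst hgg'
    have e2 : (hex g).choose = (hex g').choose := congrArg Prod.snd hgg'
    have e3 := (hex g).choose_spec
    have e4 := (hex g').choose_spec
    rw [e2, ← e4, e1] at e3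
    exact sub_left_injective e3
  exact hf.countable

theorem countable_hom_biprod (E A B : C) [HasBinaryBiproduct A B] (hA : Countable (E ⟶ A))
    (hB : Countable (E ⟶ B)) : Countable (E ⟶ A ⊞ B) := by
  let f : (E ⟶ A ⊞ B) → (E ⟶ A) × (E ⟶ B) := fun g => (g ≫ biprod.fst, g ≫ biprod.snd)
  have hf : Function.Injective f := by
    intro g g' h
    apply biprod.hom_ext
    · exact congrArg Prod.fst h
    · exact congrArg Prod.snd h
  exact hf.countable

/-- countability of `Hom(K[n], L)` from `Hom(K, L[-n])` -/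
theorem countable_hom_shift (K L L' : C) (n : ℤ) (e : L⟦-n⟧ ≅ L') (h : Countable (K ⟶ L')) :
    Countable (K⟦n⟧ ⟶ L) := by
  let f : (K⟦n⟧ ⟶ L) → (K ⟶ L') := fun φ =>
    (shiftEquiv C n).unitIso.hom.app K ≫ φ⟦-n⟧' ≫ e.hom
  have hf : Function.Injective f := by
    intro φ ψ h
    simp only [f] at h
    rw [cancel_epi, cancel_mono] at h
    exact (shiftFunctor C (-n)).map_injective h
  exact hf.countable

end Abstract

section Ring

open Groth.Agent.Lib.Helper18.DR

attribute [local instance] HasDerivedCategory.standard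

variable {R : Type u} [CommRing R]

lemma countable_of_iso {M N : ModuleCat.{u} R} (e : M ≅ N) (h : Countable M) : Countable N := by
  have hinj : Function.Injective (ConcreteCategory.hom e.inv) :=
    ((ConcreteCategory.bijective_of_isIso e.inv)).injective
  exact hinj.countable

/-- `Hom(R[0], L)` is countable if `H^0(L)` is -/
theorem countable_hom_ring (L : Dual.D R) (hL : Countable ((H R 0).obj L)) :
    Countable (Dual.inD R R ⟶ L) := by
  let f : (Dual.inD R R ⟶ L) → (H R 0).obj L := fun φ =>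
    (ConcreteCategory.hom ((HSg 0 (ModuleCat.of R R)).inv ≫ (H R 0).map φ)) (1 : R)
  have hf : Function.Injective f := by
    intro φ ψ h
    have h1 : (HSg 0 (ModuleCat.of R R)).inv ≫ (H R 0).map φ =
        (HSg 0 (ModuleCat.of R R)).inv ≫ (H R 0).map ψ := by
      apply ModuleCat.hom_ext
      apply LinearMap.ext_ring
      exact h
    have h2 : (H R 0).map (φ - ψ) = 0 := by
      rw [Functor.map_sub, sub_eq_zero]
      exact (cancel_epi _).1 h1
    exact sub_eq_zero.1 (hom_Sg_eq_zero 0 (ModuleCat.of R R) L (φ - ψ) h2)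
  exact hf.countable

/-- **countability of `Hom` out of perfect complexes over a ring** -/
theorem countable_hom_of_isPerfect (P M : Dual.D R) (hP : DRing.IsPerfect R P)
    (hM : ∀ n : ℤ, Countable ((H R n).obj M)) : ∀ i : ℤ, Countable (P ⟶ M⟦i⟧) := by
  let Pr : ObjectProperty (Dual.D R) := fun K => ∀ i : ℤ, Countable (K ⟶ M⟦i⟧)
  haveI : Pr.IsClosedUnderIsomorphisms := ⟨fun {K K'} e hK i => by
    let f : (K' ⟶ M⟦i⟧) → (K ⟶ M⟦i⟧) := fun φ => e.hom ≫ φ
    have hf : Function.Injective f := fun φ ψ h => (cancel_epi e.hom).1 h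
    haveI := hK i
    exact hf.countable⟩
  refine Groth.Agent.Lib.Helper18.DR.perfect_induction Pr ?_ ?_ ?_ ?_ P hP
  · intro i
    apply countable_hom_ring
    exact countable_of_iso
      (((DerivedCategory.homologyFunctor (ModuleCat.{u} R) 0).shiftIso i 0 i (by omega)).app M).symm
      (hM i)
  · intro K n hK i
    exact countable_hom_shift K (M⟦i⟧) (M⟦i - n⟧) n
      ((shiftFunctorAdd' (Dual.D R) i (-n) (i - n) (by omega)).symm.app M) (hK (i - n))
  · intro T hT h1 h3 i
    exact countable_hom_of_triangle T hT _ (h1 i) (h3 i)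
  · intro X Y _ hXY i
    let f : (X ⟶ M⟦i⟧) → (X ⊞ Y ⟶ M⟦i⟧) := fun φ => biprod.fst ≫ φ
    have hf : Function.Injective f := fun φ ψ h => (cancel_epi biprod.fst).1 h
    haveI := hXY i
    exact hf.countable

end Ring

end Groth.Agent.Lib.Helper2.Glue.Cnt
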