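import Groth.Agent.Lib.Helper2.Glue.CountableRing
import Groth.Agent.Lib.Helper2.Aff.AffModel
import Groth.Agent.Lib.Helper2.Aff.HomVanMV
import Groth.Agent.Lib.Helper13.OpenEquivSupp
import Groth.Agent.Lib.Helper2.Aff.CoreflQCoh

/-!
# Countability of `Hom(E|_U, K|_U[i])` for perfect `E` and `K ∈ D_QCoh` with countable
sections (helper2)
-/

set_option autoImplicit false
set_option linter.style.haveILetI false
universe u
open CategoryTheory CategoryTheory.Limits CategoryTheory.Pretriangulated DerivedCategory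
  AlgebraicGeometry Opposite

attribute [local instance] HasDerivedCategory.standard

namespace Groth.Agent.Lib.Helper2.Glue.Cnt

open Groth.Agent.Lib.Helper18.DR Groth.Agent.Lib.Helper2.TExactIso Groth.Agent.Lib.Helper2.Aff
  Groth.Agent.Lib.Helper2.Aff.AffModel Groth.Agent.Lib.Helper13 AlgebraicGeometry.Scheme.Modules
  Groth.Agent.Lib.Helper2.Aff.HomVan Groth.Agent.Lib.Helper2.Aff.Qcqs
  Groth.Agent.Lib.Helper13.QCDim Groth.Agent.Lib.Helper2.Stk

attribute [local instance] Groth.Agent.Lib.Helper2.Stk.hasRpush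
attribute [local instance] Groth.Agent.Lib.Helper14.preservesFiniteLimits_tilde

lemma countable_sections_of_iso {Y : Scheme.{u}} {F G : Y.Modules} (e : F ≅ G) (U : Y.Opens)
    (h : Countable (F.val.obj (op U))) : Countable (G.val.obj (op U)) := by
  have hinj : Function.Injective (ConcreteCategory.hom (e.inv.app U)) :=
    (ConcreteCategory.bijective_of_isIso (e.inv.app U)).injective
  have h' : Countable Γ(F, U) := h
  exact (hinj.countable : Countable Γ(G, U))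

/-- countability of `Hom(E', L')` on an affine scheme -/
theorem countable_hom_affine (Y : Scheme.{u}) [IsAffine Y] (E' L' : DCoh.D Y)
    (hE' : DCoh.IsPerfect E') (hL' : DCoh.IsQCohD L')
    (hsec : ∀ n : ℤ, Countable ((DCoh.HD L' n).val.obj (op ⊤))) : Countable (E' ⟶ L') := by
  let e : Y ⟶ Spec (CommRingCat.of ↑Γ(Y, ⊤)) := Y.toSpecΓ
  haveI : IsIso e := inferInstanceAs (IsIso Y.toSpecΓ)
  obtain ⟨hfull, hfaith, hess⟩ := Tm_full_faithful_essImage e
  obtain ⟨P, ⟨εP⟩⟩ := (hess E').1 (isQCohD_of_isPerfect E' hE')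
  obtain ⟨M, ⟨εM⟩⟩ := (hess L').1 hL'
  have hP : DRing.IsPerfect ↑Γ(Y, ⊤) P :=
    (isPerfect_Tm_iff e P).1 (PerfTri.isPerfect_of_iso εP.symm hE')
  have hMc : ∀ n : ℤ, Countable ((H ↑Γ(Y, ⊤) n).obj M) := by
    intro n
    -- `tildeD M ≅ (inv e)^* L'`
    let c1 : (DCoh.tildeD (CommRingCat.of ↑Γ(Y, ⊤))).obj M ≅ (DCoh.restrictD (inv e)).obj L' :=
      (restrictDEquiv e).unitIso.app _ ≪≫ (DCoh.restrictD (inv e)).mapIso εM
    obtain ⟨c2⟩ := OpenEquivSupp.nonempty_HD_restrictD_iso (inv e) L' n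
    let c3 : (tilde.functor (CommRingCat.of ↑Γ(Y, ⊤))).obj ((H ↑Γ(Y, ⊤) n).obj M) ≅
        (restrictFunctor (inv e)).obj (DCoh.HD L' n) :=
      (mapDerivedCategoryHomologyIso (tilde.functor (CommRingCat.of ↑Γ(Y, ⊤))) M n).symm ≪≫
        (DerivedCategory.homologyFunctor _ n).mapIso c1 ≪≫ c2
    have h1 : Countable (((restrictFunctor (inv e)).obj (DCoh.HD L' n)).val.obj (op ⊤)) := by
      have htop : (inv e) ''ᵁ ⊤ = ⊤ := by
        rw [Scheme.Hom.image_top_eq_opensRange]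
        exact Scheme.Hom.opensRange_of_isIso _
      show Countable ((DCoh.HD L' n).val.obj (op ((inv e) ''ᵁ ⊤)))
      rw [htop]
      exact hsec n
    have h2 := countable_sections_of_iso c3.symm ⊤ h1
    have h3 : Countable ((moduleSpecΓFunctor (R := CommRingCat.of ↑Γ(Y, ⊤))).obj
        ((tilde.functor (CommRingCat.of ↑Γ(Y, ⊤))).obj ((H ↑Γ(Y, ⊤) n).obj M))) := h2
    exact countable_of_iso
      ((tilde.toTildeΓNatIso (R := CommRingCat.of ↑Γ(Y, ⊤))).app ((H ↑Γ(Y, ⊤) n).obj M)).symm h3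
  have h0 := countable_hom_of_isPerfect P M hP hMc 0
  haveI := hfull
  let f : (P ⟶ M⟦(0 : ℤ)⟧) → (E' ⟶ L') := fun φ =>
    εP.inv ≫ (Tm e).map (φ ≫ (shiftFunctorZero _ ℤ).hom.app M) ≫ εM.hom
  have hf : Function.Surjective f := by
    intro ψ
    obtain ⟨φ, hφ⟩ := (Tm e).map_surjective (εP.hom ≫ ψ ≫ εM.inv)
    refine ⟨φ ≫ (shiftFunctorZero _ ℤ).inv.app M, ?_⟩
    simp only [f]
    rw [Category.assoc, Iso.inv_hom_id_app]
    erw [Category.comp_id]
    rw [hφ]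
    simp
  exact hf.countable

variable {X : Scheme.{u}}

/-- adjunction form of countability -/
lemma countable_adj {U : Scheme.{u}} (j j' : U ⟶ X) [IsOpenImmersion j] (hj : j' = j)
    (E L : DCoh.D X) :
    Countable (E ⟶ (DCoh.Rpush j').obj ((DCoh.restrictD j).obj L)) ↔
      Countable ((DCoh.restrictD j).obj E ⟶ (DCoh.restrictD j).obj L) := by
  subst hj
  exact ((Groth.Agent.Lib.Helper2.Aff.Corefl.adjOpen j').homEquiv E _).symm.countable_iff

/-- the class of objects with quasi-coherent cohomology and countable sections on affines -/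
def CntQC (L : DCoh.D X) : Prop :=
  DCoh.IsQCohD L ∧ ∀ V : X.Opens, IsAffineOpen V → ∀ n : ℤ,
    Countable ((DCoh.HD L n).val.obj (op V))

lemma cntQC_shift (L : DCoh.D X) (hL : CntQC L) (k : ℤ) : CntQC (L⟦k⟧) := by
  refine ⟨isQCohD_shift L hL.1 k, fun V hV n => ?_⟩
  have e : DCoh.HD (L⟦k⟧) n ≅ DCoh.HD L (k + n) :=
    ((DerivedCategory.homologyFunctor X.Modules 0).shiftIso k n (k + n) rfl).app L
  exact countable_sections_of_iso e.symm V (hL.2 V hV (k + n))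

/-- countability over an affine open -/
theorem countable_hom_affineOpen (E : DCoh.D X) (hE : DCoh.IsPerfect E) (W : X.Opens)
    (hW : IsAffineOpen W) (L : DCoh.D X) (hL : CntQC L) :
    Countable ((DCoh.restrictD W.ι).obj E ⟶ (DCoh.restrictD W.ι).obj L) := by
  haveI : IsAffine (W : Scheme.{u}) := hW
  refine countable_hom_affine (W : Scheme.{u}) _ _ (PtFibre.isPerfect_restrict W.ι hE)
    (isQCohD_restrict W.ι L hL.1) (fun n => ?_)
  obtain ⟨c⟩ := OpenEquivSupp.nonempty_HD_restrictD_iso W.ι L n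
  refine countable_sections_of_iso c.symm ⊤ ?_
  show Countable ((DCoh.HD L n).val.obj (op (W.ι ''ᵁ ⊤)))
  rw [Scheme.Opens.ι_image_top]
  exact hL.2 W hW n

/-- the Mayer–Vietoris induction -/
theorem countable_hom_RW (E : DCoh.D X) (hE : DCoh.IsPerfect E) {d : ℕ} {W : X.Opens}
    (h : QC d W) : ∀ L : DCoh.D X, CntQC L → Countable (E ⟶ RW (𝟙 X) W L) := by
  induction h with
  | affine W hW =>
    intro L hL
    exact (countable_adj W.ι (W.ι ≫ 𝟙 X) (Category.comp_id _) E L).2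
      (countable_hom_affineOpen E hE W hW L hL)
  | union d U V hU hV hUV ihU ihV ihUV =>
    intro L hL
    obtain ⟨a, b, c, hT⟩ := exists_mv_triangle (𝟙 X) U V L
    obtain ⟨cs, tri⟩ := exists_isTriangulated_Rpush ((U ⊓ V).ι ≫ 𝟙 X)
    let ε : (RW (𝟙 X) (U ⊓ V) L)⟦(-1 : ℤ)⟧ ≅ RW (𝟙 X) (U ⊓ V) (L⟦(-1 : ℤ)⟧) :=
      ((DCoh.Rpush ((U ⊓ V).ι ≫ 𝟙 X)).commShiftIso (-1 : ℤ)).symm.app _ ≪≫
        (DCoh.Rpush ((U ⊓ V).ι ≫ 𝟙 X)).mapIso
          (((DCoh.restrictD (U ⊓ V).ι).commShiftIso (-1 : ℤ)).symm.app L)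
    have h1 : Countable (E ⟶ (RW (𝟙 X) (U ⊓ V) L)⟦(-1 : ℤ)⟧) := by
      haveI := ihUV (L⟦(-1 : ℤ)⟧) (cntQC_shift L hL (-1))
      let f : (E ⟶ (RW (𝟙 X) (U ⊓ V) L)⟦(-1 : ℤ)⟧) → (E ⟶ RW (𝟙 X) (U ⊓ V) (L⟦(-1 : ℤ)⟧)) :=
        fun φ => φ ≫ ε.hom
      have hf : Function.Injective f := fun φ ψ h => (cancel_mono ε.hom).1 h
      exact hf.countable
    have h3 : Countable (E ⟶ RW (𝟙 X) U L ⊞ RW (𝟙 X) V L) :=
      countable_hom_biprod E _ _ (ihU L hL) (ihV L hL)
    exact countable_hom_of_triangle' _ (inv_rot_of_distTriang _ hT) E h1 h3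
  | mono d d' W h hW ih => exact ih

/-- **countability of `Hom(E|_U, K|_U[i])`** -/
theorem countable_hom_restrict [QuasiSeparatedSpace X] (K : DCoh.D X) (hK : DCoh.IsQCohD K)
    (hKc : ∀ V : X.Opens, IsAffineOpen V → ∀ i : ℤ, Countable ((DCoh.HD K i).val.obj (op V)))
    (E : DCoh.D X) (hE : DCoh.IsPerfect E) (U : X.Opens) (hU : IsCompact (U : Set X)) (i : ℤ) :
    Countable ((DCoh.restrictD U.ι).obj E ⟶ ((DCoh.restrictD U.ι).obj K)⟦i⟧) := by
  obtain ⟨d, hd⟩ := QC.exists_of_isCompact U hU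
  have h1 := countable_hom_RW E hE hd (K⟦i⟧) (cntQC_shift K ⟨hK, hKc⟩ i)
  have h2 := (countable_adj U.ι (U.ι ≫ 𝟙 X) (Category.comp_id _) E (K⟦i⟧)).1 h1
  let c := ((DCoh.restrictD U.ι).commShiftIso i).app K
  let f : ((DCoh.restrictD U.ι).obj E ⟶ ((DCoh.restrictD U.ι).obj K)⟦i⟧) →
      ((DCoh.restrictD U.ι).obj E ⟶ (DCoh.restrictD U.ι).obj (K⟦i⟧)) := fun φ => φ ≫ c.inv
  have hf : Function.Injective f := fun φ ψ h => (cancel_mono c.inv).1 h
  exact hf.countable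

end Groth.Agent.Lib.Helper2.Glue.Cnt
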