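import Groth.Agent.Lib.Helper2.Glue.Sch
import Groth.Agent.Lib.Helper2.Stk.RpushComp

/-!
# Locality with respect to a smaller open (helper2)

If `F` is local for `O = W ∪ O'` and vanishes on `O'`, then `F` is local for `W`.
-/

set_option autoImplicit false
set_option linter.style.haveILetI false
universe u
open CategoryTheory CategoryTheory.Limits CategoryTheory.Pretriangulated DerivedCategory
  AlgebraicGeometry

attribute [local instance] HasDerivedCategory.standard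

namespace Groth.Agent.Lib.Helper2.Glue

open Groth.Agent.Lib.Helper2.Aff Groth.Agent.Lib.Helper2.Stk Groth.Agent.Lib.Helper13
  AlgebraicGeometry.Scheme.Modules

attribute [local instance] Groth.Agent.Lib.Helper2.Stk.hasRpush

variable {X : Scheme.{u}}

lemma nonempty_Rpush_congr {A B : Scheme.{u}} {f g : A ⟶ B} (h : f = g) (M : DCoh.D A) :
    Nonempty ((DCoh.Rpush f).obj M ≅ (DCoh.Rpush g).obj M) := by
  subst h
  exact ⟨Iso.refl _⟩

/-- an object vanishing on `O'` is local for `W` as soon as it is local for `W ∪ O'` -/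
theorem isIso_unit_sub (W O' : X.Opens) (F : DCoh.D X)
    (hO : IsIso ((Corefl.adjOpen (W ⊔ O').ι).unit.app F))
    (hF : IsZero ((DCoh.restrictD O'.ι).obj F)) :
    IsIso ((Corefl.adjOpen W.ι).unit.app F) := by
  let O : X.Opens := W ⊔ O'
  let G := (DCoh.restrictD O.ι).obj F
  -- `G` vanishes on the preimage of `O'`
  have hG : IsZero ((DCoh.restrictD (O.ι ⁻¹ᵁ O').ι).obj G) := by
    refine isZero_restrictD_restrictD O.ι (O.ι ⁻¹ᵁ O').ι O'.ι ?_ F hF
    rintro _ ⟨w, rfl⟩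
    have hw : O.ι.base ((O.ι ⁻¹ᵁ O').ι.base w) ∈ O' := w.2
    exact ⟨⟨_, hw⟩, rfl⟩
  -- hence `G` is local for the preimage of `W`
  have hcompl : (((O.ι ⁻¹ᵁ O' : (O : Scheme.{u}).Opens)) : Set (O : Scheme.{u}))ᶜ ⊆
      Set.range (O.ι ⁻¹ᵁ W).ι.base := by
    intro x hx
    have hx' : O.ι.base x ∈ ((W ⊔ O' : X.Opens) : Set X) := x.2
    rw [TopologicalSpace.Opens.coe_sup] at hx'
    rcases hx' with h | h
    · rw [Scheme.Opens.range_ι]
      exact h
    · exact absurd h hx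
  haveI hGloc : IsIso ((Corefl.adjOpen (O.ι ⁻¹ᵁ W).ι).unit.app G) := by
    refine OpenFF.isIso_unit_of_vanishing (O.ι ⁻¹ᵁ W).ι (O.ι ⁻¹ᵁ O') hcompl _ G (fun n => ?_)
    obtain ⟨e'⟩ := OpenEquivSupp.nonempty_HD_restrictD_iso (O.ι ⁻¹ᵁ O').ι G n
    exact ((DerivedCategory.homologyFunctor _ n).map_isZero hG).of_iso e'.symm
  haveI := hO
  let M := (DCoh.restrictD (O.ι ⁻¹ᵁ W).ι).obj G
  let c := Scheme.Opens.isoOfLE (le_sup_left : W ≤ O)
  have hc : (O.ι ⁻¹ᵁ W).ι ≫ O.ι = c.hom ≫ W.ι := (Scheme.Opens.isoOfLE_hom_ι _).symm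
  obtain ⟨e3⟩ := nonempty_Rpush_congr hc M
  let e : F ≅ (DCoh.Rpush W.ι).obj ((DCoh.Rpush c.hom).obj M) :=
    asIso ((Corefl.adjOpen O.ι).unit.app F) ≪≫
      (DCoh.Rpush O.ι).mapIso (asIso ((Corefl.adjOpen (O.ι ⁻¹ᵁ W).ι).unit.app G)) ≪≫
      (RpushComp (O.ι ⁻¹ᵁ W).ι O.ι).app M ≪≫ e3 ≪≫ ((RpushComp c.hom W.ι).app M).symm
  obtain ⟨hfull, hfaith⟩ := OpenFF.full_faithful_Rpush W.ι
  haveI := hfull
  haveI := hfaith
  exact (Corefl.adjOpen W.ι).isIso_unit_app_of_iso e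

end Groth.Agent.Lib.Helper2.Glue
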