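import Groth.Agent.Lib.Helper2.Glue.Gen
import Groth.Agent.Lib.Helper2.Glue.Local

/-!
# Perfect generators with supports (helper2)

Stacks 36.15.4: for a qcqs scheme `X` and a closed `T ⊆ X` with quasi-compact complement,
`D_{QCoh,T}(O_X)` is generated by a perfect object supported on `T`.
-/

set_option autoImplicit false
set_option linter.style.haveILetI false
universe u
open CategoryTheory CategoryTheory.Limits CategoryTheory.Pretriangulated DerivedCategory
  AlgebraicGeometry ZeroObject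

attribute [local instance] HasDerivedCategory.standard

namespace Groth.Agent.Lib.Helper2.Glue

open Groth.Agent.Lib.Helper18.DR Groth.Agent.Lib.Helper2.TExactIso Groth.Agent.Lib.Helper2.Aff
  Groth.Agent.Lib.Helper2.Stk Groth.Agent.Lib.Helper13 Groth.Agent.Lib.Helper2.Aff.AffModel
  Groth.Agent.Lib.Helper2.Kos

attribute [local instance] Groth.Agent.Lib.Helper2.Stk.hasRpush

/-- `P` generates the objects of `D_QCoh(O_X)` supported on `T` -/
def IsGenT {X : Scheme.{u}} (T : Set X) (P : DCoh.D X) : Prop :=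
  ∀ E : DCoh.D X, DCoh.IsQCohD E → (∀ i : ℤ, CohB1.support (DCoh.HD E i) ⊆ T) →
    (∀ (n : ℤ) (φ : P⟦n⟧ ⟶ E), φ = 0) → IsZero E

/-- perfect generators with supports exist -/
def HasGenT (X : Scheme.{u}) : Prop :=
  ∀ T : Set X, IsClosed T → IsRetrocompact Tᶜ →
    ∃ P : DCoh.D X, DCoh.IsPerfect P ∧ (∀ i : ℤ, CohB1.support (DCoh.HD P i) ⊆ T) ∧ IsGenT T P

/-- an object which is local for `W` and vanishes on `W` is zero -/
theorem isZero_of_local_of_isZero {X : Scheme.{u}} (W : X.Opens) (E : DCoh.D X)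
    (hloc : IsIso ((Corefl.adjOpen W.ι).unit.app E))
    (hz : IsZero ((DCoh.restrictD W.ι).obj E)) : IsZero E := by
  have hη : (Corefl.adjOpen W.ι).unit.app E = 0 :=
    hom_eq_zero_of_isZero_map (Corefl.adjOpen W.ι) hz _
  have hid : 𝟙 E = (Corefl.adjOpen W.ι).unit.app E ≫ inv ((Corefl.adjOpen W.ι).unit.app E) :=
    (IsIso.hom_inv_id _).symm
  have hzz : (Corefl.adjOpen W.ι).unit.app E ≫ inv ((Corefl.adjOpen W.ι).unit.app E) = 0 := by
    generalize inv ((Corefl.adjOpen W.ι).unit.app E) = w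
    rw [hη, zero_comp]
  rw [IsZero.iff_id_eq_zero, hid, hzz]

theorem supp_biprod {X : Scheme.{u}} (T : Set X) (hT : IsClosed T) {A B : DCoh.D X}
    (hA : ∀ i : ℤ, CohB1.support (DCoh.HD A i) ⊆ T)
    (hB : ∀ i : ℤ, CohB1.support (DCoh.HD B i) ⊆ T) (i : ℤ) :
    CohB1.support (DCoh.HD (A ⊞ B) i) ⊆ T := by
  revert i
  rw [supp_iff T hT] at hA hB ⊢
  haveI : PreservesBinaryBiproducts (DCoh.restrictD (cOpen T hT).ι) :=
    preservesBinaryBiproducts_of_preservesBiproducts _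
  exact IsZero.of_iso (isZero_biprod hA hB) ((DCoh.restrictD (cOpen T hT).ι).mapBiprod A B)

theorem hasGenT_of_iso {X Y : Scheme.{u}} (e : X ⟶ Y) [IsIso e] (h : HasGenT Y) : HasGenT X := by
  intro T hT hTc
  have hie : ∀ x : X, (inv e).base (e.base x) = x := fun x => by
    rw [← Scheme.Hom.comp_apply, IsIso.hom_inv_id]
    rfl
  obtain ⟨P, hP, hPs, hgen⟩ := h ((inv e).base ⁻¹' T) (hT.preimage (inv e).continuous) (by
    rw [← Set.preimage_compl]
    exact hTc.preimage_of_isOpenEmbedding (inv e).isOpenEmbedding)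
  refine ⟨(DCoh.restrictD e).obj P, PtFibre.isPerfect_restrict e hP, fun i => ?_,
    fun E hE hEs hφ => ?_⟩
  · rw [support_HD_restrictD e P i]
    intro x hx
    have h1 : (inv e).base (e.base x) ∈ T := hPs i hx
    rw [hie] at h1
    exact h1
  · let ε : (DCoh.restrictD e).obj ((DCoh.restrictD (inv e)).obj E) ≅ E :=
      (restrictDEquiv e).counitIso.app E
    have hE' : IsZero ((DCoh.restrictD (inv e)).obj E) := by
      refine hgen _ (isQCohD_restrict (inv e) E hE) (fun i => ?_) (fun n φ => ?_)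
      · rw [support_HD_restrictD (inv e) E i]
        exact Set.preimage_mono (hEs i)
      · have h1 := hφ n (((DCoh.restrictD e).commShiftIso n).inv.app P ≫
          (DCoh.restrictD e).map φ ≫ ε.hom)
        apply (DCoh.restrictD e).map_injective
        rw [Functor.map_zero]
        have h3 : (DCoh.restrictD e).map φ ≫ ε.hom = 0 := by
          rw [← cancel_epi (((DCoh.restrictD e).commShiftIso n).inv.app P), h1, comp_zero]
        rw [← cancel_mono ε.hom, h3, zero_comp]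
    exact ((DCoh.restrictD e).map_isZero hE').of_iso ε.symm

section Affine

attribute [local instance] Groth.Agent.Lib.Helper14.preservesFiniteLimits_tilde

theorem hasGenT_affine (X : Scheme.{u}) [IsAffine X] : HasGenT X := by
  intro T hT hTc
  let W : X.Opens := ⟨Tᶜ, hT.isOpen_compl⟩
  have hWc : IsCompact (W : Set X) := hTc.isCompact
  obtain ⟨fs, hfs⟩ := exists_list_compl_eq X W hWc
  let e : X ⟶ Spec (CommRingCat.of ↑Γ(X, ⊤)) := X.toSpecΓ
  haveI : IsIso e := inferInstanceAs (IsIso X.toSpecΓ)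
  haveI : QuasiSeparatedSpace X := inferInstance
  have hUc : ((W : Set X))ᶜ = e.base ⁻¹' zl {a | a ∈ fs} := by
    rw [hfs]
    exact (X.toSpecΓ_preimage_zeroLocus _).symm
  have hWT : ((W : Set X))ᶜ = T := compl_compl T
  refine ⟨kos e fs, isPerfect_kos e fs, fun i => ?_, fun E hE hEs hφ => ?_⟩
  · have := (isZero_restrictD_iff W (kos e fs)).1 (isZero_restrictD_kos e W fs hUc) i
    rwa [hWT] at this
  · have hloc := isIso_unit_of_orth e W fs hUc hWc E hE hφ
    refine isZero_of_local_of_isZero W E hloc ((isZero_restrictD_iff W E).2 (fun i => ?_))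
    rw [hWT]
    exact hEs i

end Affine

/-- the induction step for perfect generators with supports -/
theorem hasGenT_step (X : Scheme.{u}) (U V : X.Opens) (_hU : IsCompact (U : Set X))
    (hV : IsAffineOpen V) (hUV : IsCompact ((U ⊓ V : X.Opens) : Set X)) (hcov : U ⊔ V = ⊤)
    (hGU : HasGenT (U : Scheme.{u})) : HasGenT X := by
  intro T hT hTc
  haveI : IsAffine (V : Scheme.{u}) := hV
  obtain ⟨P₀, hP₀, hP₀s, hgen⟩ := hGU (U.ι.base ⁻¹' T) (hT.preimage U.ι.continuous) (by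
    rw [← Set.preimage_compl]
    exact hTc.preimage_of_isOpenEmbedding U.ι.isOpenEmbedding)
  have hTVc : IsClosed (V.ι.base ⁻¹' T) := hT.preimage V.ι.continuous
  have hTV : IsCompact ((V.ι.base ⁻¹' T)ᶜ) := by
    have h1 : IsRetrocompact ((V.ι.base ⁻¹' T)ᶜ) := by
      rw [← Set.preimage_compl]
      exact hTc.preimage_of_isOpenEmbedding V.ι.isOpenEmbedding
    exact h1.isCompact
  have hW := isCompact_preimage_ι U V hUV
  let O' : (V : Scheme.{u}).Opens := cOpen (V.ι.base ⁻¹' T) hTVc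
  let O : (V : Scheme.{u}).Opens := (V.ι ⁻¹ᵁ U) ⊔ O'
  have hO : IsCompact (O : Set (V : Scheme.{u})) := by
    show IsCompact (((V.ι ⁻¹ᵁ U) ⊔ O' : (V : Scheme.{u}).Opens) : Set (V : Scheme.{u}))
    rw [TopologicalSpace.Opens.coe_sup]
    exact hW.union hTV
  have hOT : ((O : Set (V : Scheme.{u})))ᶜ = {v | V.ι.base v ∈ T \ (U : Set X)} := by
    ext v
    show v ∉ (((V.ι ⁻¹ᵁ U) ⊔ O' : (V : Scheme.{u}).Opens) : Set (V : Scheme.{u})) ↔ _
    rw [TopologicalSpace.Opens.coe_sup]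
    constructor
    · intro h
      refine ⟨?_, fun hu => h (Or.inl hu)⟩
      by_contra hT'
      exact h (Or.inr hT')
    · rintro ⟨h1, h2⟩ (h | h)
      · exact h2 h
      · exact h h1
  have hT'c : IsClosed (T \ (U : Set X)) := hT.sdiff U.isOpen
  obtain ⟨R, ρ, θ, hR, hRs, -⟩ := step_glue U V hV hUV hcov T hT hTV P₀ hP₀
    (fun i => hP₀s i) 0 ((Qcqs.devQCoh X).of_isZero (isZero_zero _)) 0
  obtain ⟨K, hK, hKO, hKorth⟩ := exists_koszul_affine (V : Scheme.{u}) O hO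
  have hKW : IsZero ((DCoh.restrictD (V.ι ⁻¹ᵁ U).ι).obj K) := by
    refine isZero_restrictD_of_range_le O.ι (V.ι ⁻¹ᵁ U).ι ?_ K hKO
    rw [Scheme.Opens.range_ι, Scheme.Opens.range_ι]
    exact (le_sup_left : (V.ι ⁻¹ᵁ U) ≤ O)
  have hKs : ∀ i : ℤ, CohB1.support (DCoh.HD K i) ⊆ {v | V.ι.base v ∈ T \ (U : Set X)} := by
    intro i
    rw [← hOT]
    exact (isZero_restrictD_iff O K).1 hKO i
  let adjU := Corefl.adjOpen U.ι
  let adjV := Corefl.adjOpen V.ι
  let adjk := Corefl.adjOpen (V.ι ⁻¹ᵁ U).ι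
  haveI := OpenFF.isIso_counit U.ι adjU
  haveI := OpenFF.isIso_counit V.ι adjV
  haveI := OpenFF.isIso_counit (V.ι ⁻¹ᵁ U).ι adjk
  obtain ⟨cs, tri⟩ := exists_isTriangulated_Rpush U.ι
  letI := cs
  obtain ⟨csV, triV⟩ := exists_isTriangulated_Rpush V.ι
  letI := csV
  have hWU : Set.range ((V.ι ⁻¹ᵁ U).ι ≫ V.ι) ⊆ Set.range U.ι := by
    rintro _ ⟨w, rfl⟩
    have hw : V.ι.base ((V.ι ⁻¹ᵁ U).ι.base w) ∈ U := w.2
    exact ⟨⟨_, hw⟩, rfl⟩
  have hK' : DCoh.IsPerfect ((DCoh.Rpush V.ι).obj K) := by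
    refine PerfLocal.isPerfect_Rpush V K hK {v | V.ι.base v ∈ T \ (U : Set X)} ?_ hKs
    have him : (fun x : (V : Scheme.{u}) => V.ι.base x) '' {v | V.ι.base v ∈ T \ (U : Set X)} =
        T \ (U : Set X) := by
      ext x
      constructor
      · rintro ⟨v, hv, rfl⟩
        exact hv
      · intro hx
        have hx' : x ∈ ((U ⊔ V : X.Opens) : Set X) := by rw [hcov]; trivial
        rw [TopologicalSpace.Opens.coe_sup] at hx'
        rcases hx' with h | h
        · exact absurd h hx.2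
        · exact ⟨⟨x, h⟩, hx, rfl⟩
    rw [him]
    exact hT'c
  have hK's : ∀ i : ℤ, CohB1.support (DCoh.HD ((DCoh.Rpush V.ι).obj K) i) ⊆ T := fun i =>
    (support_HD_Rpush V (T \ (U : Set X)) hT'c K hKs i).trans Set.sdiff_subset
  refine ⟨R ⊞ (DCoh.Rpush V.ι).obj K, isPerfect_biprod hR hK', supp_biprod T hT hRs hK's,
    fun E hE hEs hG => ?_⟩
  refine isZero_of_gen adjU adjV adjk ?_ ?_ ?_ ?_
    (fun E : DCoh.D X => DCoh.IsQCohD E ∧ ∀ i : ℤ, CohB1.support (DCoh.HD E i) ⊆ T)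
    (fun E : DCoh.D (U : Scheme.{u}) => DCoh.IsQCohD E ∧
      ∀ i : ℤ, CohB1.support (DCoh.HD E i) ⊆ U.ι.base ⁻¹' T)
    (fun E : DCoh.D (V : Scheme.{u}) => DCoh.IsQCohD E ∧
      ∀ i : ℤ, CohB1.support (DCoh.HD E i) ⊆ V.ι.base ⁻¹' T)
    (fun E hE => ⟨isQCohD_restrict U.ι E hE.1, fun i => by
      rw [support_HD_restrictD U.ι E i]
      exact Set.preimage_mono (hE.2 i)⟩)
    (fun E hE => ⟨isQCohD_restrict V.ι E hE.1, fun i => by
      rw [support_HD_restrictD V.ι E i]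
      exact Set.preimage_mono (hE.2 i)⟩)
    P₀ (fun F hF h => hgen F hF.1 hF.2 h) K hKW ?_ R (biprod.inl ≫ θ.inv) (θ.hom ≫ biprod.fst)
    (by simp) E ⟨hE, hEs⟩ ?_ ?_
  · intro K h1 h2
    exact isZero_of_cover U V hcov K h1 h2
  · intro C hC
    exact isZero_restrictD_Rpush V.ι U C hC
  · intro K hK
    refine isZero_restrictD_Rpush U.ι V _ ?_
    refine isZero_restrictD_restrictD U.ι (U.ι ⁻¹ᵁ V).ι V.ι ?_ K hK
    rintro _ ⟨w, rfl⟩
    have hw : U.ι.base ((U.ι ⁻¹ᵁ V).ι.base w) ∈ V := w.2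
    exact ⟨⟨_, hw⟩, rfl⟩
  · intro K hK
    exact isZero_restrictD_restrictD V.ι (V.ι ⁻¹ᵁ U).ι U.ι hWU K hK
  · intro F hF h
    have hOloc := hKorth F hF.1 h
    exact isIso_unit_sub (V.ι ⁻¹ᵁ U) O' F hOloc ((supp_iff _ hTVc F).1 hF.2)
  · intro n φ
    have h0 := hG n ((biprod.fst : R ⊞ (DCoh.Rpush V.ι).obj K ⟶ R)⟦n⟧' ≫ φ)
    have h1 : φ = (biprod.inl : R ⟶ R ⊞ (DCoh.Rpush V.ι).obj K)⟦n⟧' ≫
        (biprod.fst : R ⊞ (DCoh.Rpush V.ι).obj K ⟶ R)⟦n⟧' ≫ φ := by
      rw [← Category.assoc, ← Functor.map_comp, biprod.inl_fst, CategoryTheory.Functor.map_id,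
        Category.id_comp]
    rw [h1, h0, comp_zero]
  · intro n φ
    have h0 := hG n ((biprod.snd : R ⊞ (DCoh.Rpush V.ι).obj K ⟶ _)⟦n⟧' ≫
      (((DCoh.Rpush V.ι).commShiftIso n).app K).inv ≫ φ)
    have h1 : (((DCoh.Rpush V.ι).commShiftIso n).app K).inv ≫ φ =
        (biprod.inr : (DCoh.Rpush V.ι).obj K ⟶ R ⊞ (DCoh.Rpush V.ι).obj K)⟦n⟧' ≫
        (biprod.snd : R ⊞ (DCoh.Rpush V.ι).obj K ⟶ _)⟦n⟧' ≫
          (((DCoh.Rpush V.ι).commShiftIso n).app K).inv ≫ φ := by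
      rw [← Category.assoc, ← Functor.map_comp, biprod.inr_snd, CategoryTheory.Functor.map_id,
        Category.id_comp]
    rw [h0, comp_zero] at h1
    rw [← cancel_epi (((DCoh.Rpush V.ι).commShiftIso n).app K).inv, h1, comp_zero]

/-- **Perfect generators with supports** -/
theorem hasGenT_qcqs (X : Scheme.{u}) [CompactSpace X] [QuasiSeparatedSpace X] : HasGenT X :=
  qcqs_induction HasGenT (fun e _ h => hasGenT_of_iso e h) (fun X _ => hasGenT_affine X)
    hasGenT_step X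

end Groth.Agent.Lib.Helper2.Glue
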