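import Groth.Agent.Lib.Helper2.Glue.Main

/-!
# Approximation by perfect complexes on quasi-compact quasi-separated schemes (helper2)

Stacks 36.14.6.
-/

set_option autoImplicit false
set_option linter.style.haveILetI false
universe u
open CategoryTheory CategoryTheory.Limits CategoryTheory.Pretriangulated DerivedCategory
  AlgebraicGeometry

attribute [local instance] HasDerivedCategory.standard

namespace Groth.Agent.Lib.Helper2.Glue

open Groth.Agent.Lib.Helper2.Aff Groth.Agent.Lib.Helper2.Stk Groth.Agent.Lib.Helper13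
  AlgebraicGeometry.Scheme.Modules Groth.Agent.Lib.Helper13.GoodMap
  Groth.Agent.Lib.Helper13.PCohTri Groth.Agent.Lib.Helper2.Kos
  Groth.Agent.Lib.Helper2.Aff.AffModel

attribute [local instance] Groth.Agent.Lib.Helper2.Stk.hasRpush

/-- approximation by perfect complexes is invariant under isomorphisms of schemes -/
theorem approxHolds_of_iso {X Y : Scheme.{u}} (e : X ⟶ Y) [IsIso e] (h : ApproxHolds Y) :
    ApproxHolds X := by
  intro T hT hTc
  have hie : ∀ x : X, (inv e).base (e.base x) = x := fun x => by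
    rw [← Scheme.Hom.comp_apply, IsIso.hom_inv_id]
    rfl
  obtain ⟨r, hr⟩ := h ((inv e).base ⁻¹' T) (hT.preimage (inv e).continuous) (by
    rw [← Set.preimage_compl]
    exact hTc.preimage_of_isOpenEmbedding (inv e).isOpenEmbedding)
  refine ⟨r, fun m E hE hpc hsupp => ?_⟩
  obtain ⟨P', α', hP', hP's, hα'⟩ := hr m ((DCoh.restrictD (inv e)).obj E)
    (isQCohD_restrict (inv e) E hE) (ClImmPC.isPC_restrict (inv e) hpc) (fun i hi => by
      rw [support_HD_restrictD (inv e) E i]
      exact Set.preimage_mono (hsupp i hi))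
  let ε : (DCoh.restrictD e).obj ((DCoh.restrictD (inv e)).obj E) ≅ E :=
    (restrictDEquiv e).counitIso.app E
  refine ⟨(DCoh.restrictD e).obj P', (DCoh.restrictD e).map α' ≫ ε.hom,
    PtFibre.isPerfect_restrict e hP', fun i => ?_, ?_⟩
  · rw [support_HD_restrictD e P' i]
    intro x hx
    have h1 : (inv e).base (e.base x) ∈ T := hP's i hx
    rw [hie] at h1
    exact h1
  · exact (good_map (Scheme.Modules.restrictFunctor e) hα').comp_iso ε.hom

section Affine

attribute [local instance] Groth.Agent.Lib.Helper14.preservesFiniteLimits_tilde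

/-- approximation by perfect complexes holds on affine schemes -/
theorem approxHolds_affine (X : Scheme.{u}) [IsAffine X] : ApproxHolds X := by
  intro T hT hTc
  let W : X.Opens := ⟨Tᶜ, hT.isOpen_compl⟩
  obtain ⟨fs, hfs⟩ := exists_list_compl_eq X W hTc.isCompact
  have hTz : T = X.zeroLocus (U := ⊤) {a | a ∈ fs} := by
    rw [← hfs]
    exact (compl_compl T).symm
  refine ⟨(fs.length : ℤ), fun m E hE hpc hsupp => ?_⟩
  obtain ⟨P, α, hP, hPs, hα⟩ := approx_affine_list X fs m E hE
    (PCB.isPC_mono (by omega) E hpc) (fun i hi => by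
      rw [← hTz]
      exact hsupp i (by omega))
  exact ⟨P, α, hP, fun i => by rw [hTz]; exact hPs i, hα⟩

end Affine

/-- approximation by perfect complexes holds on every quasi-compact open of a quasi-separated
scheme -/
theorem approxHolds_opens (X : Scheme.{u}) [QuasiSeparatedSpace X] (S : X.Opens)
    (hS : IsCompact (S : Set X)) : ApproxHolds (S : Scheme.{u}) := by
  refine compact_open_induction_on (P := fun S : X.Opens => ApproxHolds (S : Scheme.{u})) S hS
    ?_ ?_
  · haveI : IsAffine ((⊥ : X.Opens) : Scheme.{u}) := isAffineOpen_bot X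
    exact approxHolds_affine _
  · intro S hS U hSA
    -- the scheme `Y = S ∪ U` with its two opens
    let Y : X.Opens := S ⊔ U.1
    have hS' : IsCompact (((Y.ι ⁻¹ᵁ S : (Y : Scheme.{u}).Opens)) : Set (Y : Scheme.{u})) := by
      refine isCompact_preimage_ι S Y ?_
      have : S ⊓ Y = S := inf_sup_self
      rw [this]
      exact hS
    have hU' : IsAffineOpen (Y.ι ⁻¹ᵁ U.1) := by
      refine U.2.preimage_of_isOpenImmersion Y.ι ?_
      rw [Scheme.Opens.opensRange_ι]
      exact le_sup_right
    have hSU : IsCompact ((S ⊓ U.1 : X.Opens) : Set X) := by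
      rw [TopologicalSpace.Opens.coe_inf]
      exact QuasiSeparatedSpace.inter_isCompact _ _ S.isOpen hS U.1.isOpen U.2.isCompact
    have hSU' : IsCompact (((Y.ι ⁻¹ᵁ S ⊓ Y.ι ⁻¹ᵁ U.1 : (Y : Scheme.{u}).Opens)) :
        Set (Y : Scheme.{u})) := by
      have h1 := isCompact_preimage_ι (S ⊓ U.1) Y (by
        have : (S ⊓ U.1) ⊓ Y = S ⊓ U.1 := inf_eq_left.2 (inf_le_left.trans le_sup_left)
        rw [this]
        exact hSU)
      exact h1
    have hcov : Y.ι ⁻¹ᵁ S ⊔ Y.ι ⁻¹ᵁ U.1 = ⊤ := by
      have : Y.ι ⁻¹ᵁ S ⊔ Y.ι ⁻¹ᵁ U.1 = Y.ι ⁻¹ᵁ Y := rfl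
      rw [this, Scheme.Opens.ι_preimage_self]
    refine approxHolds_step (Y.ι ⁻¹ᵁ S) (Y.ι ⁻¹ᵁ U.1) hS' hU' hSU' hcov ?_
    exact approxHolds_of_iso (Scheme.Opens.isoOfLE (le_sup_left : S ≤ Y)).hom hSA

/-- **Approximation by perfect complexes** on quasi-compact quasi-separated schemes
(Stacks 36.14.6) -/
theorem approxHolds_qcqs (X : Scheme.{u}) [CompactSpace X] [QuasiSeparatedSpace X] :
    ApproxHolds X := by
  have h := approxHolds_opens X ⊤ isCompact_univ
  exact approxHolds_of_iso X.topIso.inv h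

end Groth.Agent.Lib.Helper2.Glue
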