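import Groth.Agent.Lib.Helper2.Glue.HocolimGen
import Groth.Agent.Lib.Helper2.Glue.Induct
import Groth.Agent.Lib.Helper5.DHomCoprod
import Groth.Agent.Lib.Helper2.Aff.PCBound
import Groth.Agent.Lib.Helper2.FreeSum

/-!
# Pseudo-coherent complexes are homotopy colimits of perfect complexes (helper2)

Stacks 36.19.1 / 36.19.2 on quasi-compact quasi-separated schemes, with supports.
-/

set_option autoImplicit false
set_option linter.style.haveILetI false
universe u
open CategoryTheory CategoryTheory.Limits CategoryTheory.Pretriangulated DerivedCategory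
  AlgebraicGeometry

attribute [local instance] HasDerivedCategory.standard

namespace Groth.Agent.Lib.Helper2.Glue

open Groth.Agent.Lib.Helper2.Aff Groth.Agent.Lib.Helper2.Stk Groth.Agent.Lib.Helper13
  AlgebraicGeometry.Scheme.Modules Groth.Agent.Lib.Helper13.GoodMap
  Groth.Agent.Lib.Helper13.PCohTri

attribute [local instance] Groth.Agent.Lib.Helper2.Stk.hasRpush

theorem hasExactColimitsOfShape_nat_modules (X : Scheme.{u}) :
    HasExactColimitsOfShape ℕ X.Modules :=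
  Groth.Agent.Lib.Helper2.FreeSum.hasExactColimitsOfShape_nat

theorem hasExactColimitsOfShape_discrete_nat_modules (X : Scheme.{u}) :
    HasExactColimitsOfShape (Discrete ℕ) X.Modules := by
  haveI : HasFilteredColimitsOfSize.{0, 0} X.Modules :=
    hasFilteredColimitsOfSize_of_univLE.{0, 0, u, u}
  haveI : AB5OfSize.{0, 0} X.Modules := AB5OfSize_of_univLE.{0, 0, _, u, u} X.Modules
  haveI : AB4OfSize.{0} X.Modules := AB4.of_AB5 _
  infer_instance

theorem preservesColimitsOfShape_nat_homologyFunctor_modules (X : Scheme.{u}) (j : ℤ) :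
    PreservesColimitsOfShape (Discrete ℕ) (DerivedCategory.homologyFunctor X.Modules j) := by
  haveI := hasExactColimitsOfShape_discrete_nat_modules X
  haveI : HasExactColimitsOfShape (Discrete (ULift.{u + 1} ℕ)) X.Modules :=
    HasExactColimitsOfShape.of_domain_equivalence X.Modules
      (Discrete.equivalence (Equiv.ulift.{u + 1, 0}).symm :
        Discrete ℕ ≌ Discrete (ULift.{u + 1} ℕ))
  exact Groth.Agent.Lib.Helper5.DHomCoprod.preservesColimitsOfShape_nat_homologyFunctor j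

variable {X : Scheme.{u}}

/-- lifting an approximation through a triangle whose first vertex is perfect, keeping the
comparison map -/
theorem approx_lift_sch' (T : Set X) (hT : IsClosed T) (m : ℤ) {R E E' : DCoh.D X}
    (ρ : R ⟶ E) (c : E ⟶ E') (d : E' ⟶ R⟦(1 : ℤ)⟧)
    (hTri : Triangle.mk ρ c d ∈ distTriang (DCoh.D X))
    (hR : DCoh.IsPerfect R) (hRs : ∀ i : ℤ, CohB1.support (DCoh.HD R i) ⊆ T)
    (P' : DCoh.D X) (α' : P' ⟶ E') (hP' : DCoh.IsPerfect P')
    (hP's : ∀ i : ℤ, CohB1.support (DCoh.HD P' i) ⊆ T) (hα' : Good m α') :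
    ∃ (P : DCoh.D X) (α : P ⟶ E) (u : R ⟶ P), DCoh.IsPerfect P ∧
      (∀ i : ℤ, CohB1.support (DCoh.HD P i) ⊆ T) ∧ Good m α ∧ u ≫ α = ρ := by
  obtain ⟨P, u, v, hT₁⟩ := distinguished_cocone_triangle₂ (α' ≫ d)
  obtain ⟨α, hα₁, hα₂⟩ := complete_distinguished_triangle_morphism₂ _ _ hT₁ hTri (𝟙 R) α' (by
    show (α' ≫ d) ≫ (𝟙 R)⟦(1 : ℤ)⟧' = α' ≫ d
    rw [CategoryTheory.Functor.map_id]
    exact Category.comp_id _)
  refine ⟨P, α, u, (PerfTri.two_of_three _ hT₁).2.1 hR hP', ?_, ?_, hα₁.trans (Category.id_comp _)⟩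
  · rw [supp_iff T hT] at hRs hP's ⊢
    exact Triangle.isZero₂_of_isZero₁₃ _ ((DCoh.restrictD _).map_distinguished _ hT₁) hRs hP's
  · let φ : Triangle.mk u v (α' ≫ d) ⟶ Triangle.mk ρ c d :=
      { hom₁ := 𝟙 R
        hom₂ := α
        hom₃ := α'
        comm₁ := hα₁
        comm₂ := hα₂
        comm₃ := by
          show (α' ≫ d) ≫ (𝟙 R)⟦(1 : ℤ)⟧' = α' ≫ d
          rw [CategoryTheory.Functor.map_id]
          exact Category.comp_id _ }
    have h := good_third (m := m) (inv_rot_of_distTriang _ hT₁) (inv_rot_of_distTriang _ hTri)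
      ((invRotate _).map φ) (good_shift hα' (-1) (m + 1) (by omega))
      (good_of_isIso (𝟙 R) m)
    exact h

/-- the target of an `m`-good map from an `m`-pseudo-coherent object is `m`-pseudo-coherent -/
theorem isPC_of_good (m : ℤ) {P K : DCoh.D X} (f : P ⟶ K) (hf : Good m f)
    (hP : DCoh.IsPseudoCoherentD m P) : DCoh.IsPseudoCoherentD m K := by
  rw [isPC_iff] at hP ⊢
  intro x
  obtain ⟨V, hxV, F, α, hF, hα⟩ := hP x
  exact ⟨V, hxV, F, α ≫ (DCoh.restrictD V.ι).map f, hF,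
    hα.comp (good_map (restrictFunctor V.ι) hf)⟩

/-- a stage of the tower of perfect approximations -/
structure Stage (T : Set X) (K : DCoh.D X) (n : ℕ) where
  E : DCoh.D X
  i : E ⟶ K
  perf : DCoh.IsPerfect E
  supp : ∀ j : ℤ, CohB1.support (DCoh.HD E j) ⊆ T
  good : Good (-(n : ℤ) - 1) i

theorem exists_stage_zero (hX : ApproxHolds X) (T : Set X) (hT : IsClosed T)
    (hTc : IsRetrocompact Tᶜ) (K : DCoh.D X) (hK : ∀ m : ℤ, DCoh.IsPseudoCoherentD m K)
    (hKs : ∀ i : ℤ, CohB1.support (DCoh.HD K i) ⊆ T) : Nonempty (Stage T K 0) := by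
  obtain ⟨r, hr⟩ := hX T hT hTc
  obtain ⟨P, α, hP, hPs, hα⟩ := hr (-1) K (PCB.isQCohD_of_allPC K hK) (hK _) (fun i _ => hKs i)
  exact ⟨⟨P, α, hP, hPs, by simpa using hα⟩⟩

theorem exists_stage_succ (hX : ApproxHolds X) (T : Set X) (hT : IsClosed T)
    (hTc : IsRetrocompact Tᶜ) (K : DCoh.D X) (hK : ∀ m : ℤ, DCoh.IsPseudoCoherentD m K)
    (hKs : ∀ i : ℤ, CohB1.support (DCoh.HD K i) ⊆ T) (n : ℕ) (s : Stage T K n) :
    ∃ (s' : Stage T K (n + 1)) (f : s.E ⟶ s'.E), f ≫ s'.i = s.i := by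
  obtain ⟨r, hr⟩ := hX T hT hTc
  obtain ⟨C, c, d, hTri⟩ := distinguished_cocone_triangle s.i
  obtain ⟨hCq, hCpc, hCs⟩ := cone_props T hT (-((n + 1 : ℕ) : ℤ) - 1 - r) s.i c d hTri s.perf s.supp
    (PCB.isQCohD_of_allPC K hK) (hK _) (fun i _ => hKs i)
  obtain ⟨P', α', hP', hP's, hα'⟩ := hr (-((n + 1 : ℕ) : ℤ) - 1) C hCq hCpc hCs
  obtain ⟨P, α, u, hP, hPs, hα, hu⟩ := approx_lift_sch' T hT _ s.i c d hTri s.perf s.supp
    P' α' hP' hP's hα'
  exact ⟨⟨P, α, hP, hPs, hα⟩, u, hu⟩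

/-- dependent choice -/
theorem exists_dep_seq {α : ℕ → Type*} (R : ∀ n, α n → α (n + 1) → Prop) (a0 : α 0)
    (hstep : ∀ n (a : α n), ∃ b, R n a b) :
    ∃ s : ∀ n, α n, ∀ n, R n (s n) (s (n + 1)) :=
  ⟨fun n => Nat.rec a0 (fun n a => (hstep n a).choose) n, fun n => (hstep n _).choose_spec⟩

/-- **Stacks 36.19.2**: pseudo-coherent objects supported on `T` are homotopy colimits of perfect
objects supported on `T` -/
theorem exists_tower (hX : ApproxHolds X) [HasColimitsOfShape (Discrete ℕ) (DCoh.D X)]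
    (T : Set X) (hT : IsClosed T)
    (hTc : IsRetrocompact Tᶜ) (K : DCoh.D X) (hK : ∀ m : ℤ, DCoh.IsPseudoCoherentD m K)
    (hKs : ∀ i : ℤ, CohB1.support (DCoh.HD K i) ⊆ T) :
    ∃ (E : ℕ → DCoh.D X) (f : ∀ n, E n ⟶ E (n + 1)) (i : ∀ n, E n ⟶ K),
      (∀ n, DCoh.IsPerfect (E n)) ∧ (∀ (n : ℕ) (j : ℤ), CohB1.support (DCoh.HD (E n) j) ⊆ T) ∧
      DerLim.IsHocolim E f K i ∧
      ∀ n : ℕ, IsIso (((DerivedCategory.TStructure.t :
        CategoryTheory.Triangulated.TStructure (DCoh.D X)).truncGE (-(n : ℤ))).map (i n)) := by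
  obtain ⟨s0⟩ := exists_stage_zero hX T hT hTc K hK hKs
  obtain ⟨s, hs⟩ := exists_dep_seq (α := fun n => Stage T K n)
    (fun n a b => ∃ f : a.E ⟶ b.E, f ≫ b.i = a.i) s0
    (exists_stage_succ hX T hT hTc K hK hKs)
  choose f hf using hs
  haveI := hasExactColimitsOfShape_nat_modules X
  haveI := preservesColimitsOfShape_nat_homologyFunctor_modules X
  refine ⟨fun n => (s n).E, f, fun n => (s n).i, fun n => (s n).perf, fun n => (s n).supp, ?_, ?_⟩
  · refine isHocolim_of_tower _ f K _ hf (fun j => ⟨(-j).toNat, fun n hn => ?_⟩)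
    refine (s n).good.1 j ?_
    have := Int.self_le_toNat (-j)
    have : ((-j).toNat : ℤ) ≤ (n : ℤ) := by exact_mod_cast hn
    omega
  · intro n
    exact isIso_truncGE_of_good _ _ (s n).good

/-- the converse: a homotopy colimit as above is pseudo-coherent -/
theorem isPC_of_tower (K : DCoh.D X) (E : ℕ → DCoh.D X) (i : ∀ n, E n ⟶ K)
    (hE : ∀ n, DCoh.IsPerfect (E n))
    (hi : ∀ n : ℕ, IsIso (((DerivedCategory.TStructure.t :
        CategoryTheory.Triangulated.TStructure (DCoh.D X)).truncGE (-(n : ℤ))).map (i n)))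
    (m : ℤ) : DCoh.IsPseudoCoherentD m K := by
  refine isPC_of_good m (i (-m).toNat) ?_ (PerfTor.isPC_of_isPerfect _ (hE _) m)
  refine good_of_isIso_truncGE _ _ (hi _) m ?_
  have := Int.self_le_toNat (-m)
  omega

end Groth.Agent.Lib.Helper2.Glue
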