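import Groth.Agent.Lib.Helper2.Glue.Induct
import Groth.Agent.Lib.Helper18.ShrA

/-!
# Lifting maps from perfect complexes with supports across quasi-compact opens (helper2)

Stacks 36.13.10 / 36.15: for `U ⊆ X` quasi-compact open in a qcqs scheme, a map `P ⟶ E|_U` from a
perfect complex supported on `T ∩ U` is a retract of the restriction of a map `R ⟶ E` with `R`
perfect and supported on `T`.
-/

set_option autoImplicit false
set_option linter.style.haveILetI false
universe u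
open CategoryTheory CategoryTheory.Limits CategoryTheory.Pretriangulated DerivedCategory
  AlgebraicGeometry

attribute [local instance] HasDerivedCategory.standard

namespace Groth.Agent.Lib.Helper2.Glue

open Groth.Agent.Lib.Helper2.Aff Groth.Agent.Lib.Helper2.Stk Groth.Agent.Lib.Helper13
  AlgebraicGeometry.Scheme.Modules Groth.Agent.Lib.Helper13.GoodMap
  Groth.Agent.Lib.Helper13.PCohTri Groth.Agent.Lib.Helper2.Kos
  Groth.Agent.Lib.Helper2.Aff.AffModel

attribute [local instance] Groth.Agent.Lib.Helper2.Stk.hasRpush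

/-- pseudo-functoriality of restriction to opens on derived categories -/
noncomputable def restrictDComp {Y' Y X : Scheme.{u}} (j' : Y' ⟶ Y) (j : Y ⟶ X) (j'' : Y' ⟶ X)
    [IsOpenImmersion j'] [IsOpenImmersion j] [IsOpenImmersion j''] (h : j'' = j' ≫ j) :
    DCoh.restrictD j'' ≅ DCoh.restrictD j ⋙ DCoh.restrictD j' :=
  Groth.Agent.Lib.Helper18.DR.Shr.mapDCompIso (restrictFunctorCongr h ≪≫ restrictFunctorComp j' j)

/-- the lifting property along an open immersion -/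
def Lifts {Y Z : Scheme.{u}} (j : Y ⟶ Z) [IsOpenImmersion j] : Prop :=
  ∀ (T : Set Z), IsClosed T → IsCompact Tᶜ → ∀ (E : DCoh.D Z), DCoh.IsQCohD E →
    ∀ (P : DCoh.D Y), DCoh.IsPerfect P →
    (∀ k : ℤ, CohB1.support (DCoh.HD P k) ⊆ {y : Y | j.base y ∈ T}) →
    ∀ (α : P ⟶ (DCoh.restrictD j).obj E),
    ∃ (R : DCoh.D Z) (β : R ⟶ E) (i : P ⟶ (DCoh.restrictD j).obj R)
      (p : (DCoh.restrictD j).obj R ⟶ P),
      DCoh.IsPerfect R ∧ (∀ k : ℤ, CohB1.support (DCoh.HD R k) ⊆ T) ∧ i ≫ p = 𝟙 P ∧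
        i ≫ (DCoh.restrictD j).map β = α

/-- isomorphisms have the lifting property -/
theorem lifts_of_isIso {Y Z : Scheme.{u}} (e : Y ⟶ Z) [IsIso e] : Lifts e := by
  intro T hT hTc E hE P hP hPT α
  have hie : ∀ z : Z, e.base ((inv e).base z) = z := fun z => by
    rw [← Scheme.Hom.comp_apply, IsIso.inv_hom_id]
    rfl
  let θ : (DCoh.restrictD e).obj ((DCoh.restrictD (inv e)).obj P) ≅ P :=
    (restrictDEquiv e).counitIso.app P
  haveI := Corefl.full_restrictD_of_isIso e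
  obtain ⟨β, hβ⟩ := (DCoh.restrictD e).map_surjective (θ.hom ≫ α)
  refine ⟨(DCoh.restrictD (inv e)).obj P, β, θ.inv, θ.hom, PtFibre.isPerfect_restrict (inv e) hP,
    fun k => ?_, θ.inv_hom_id, ?_⟩
  · rw [support_HD_restrictD (inv e) P k]
    intro z hz
    have h1 : e.base ((inv e).base z) ∈ T := hPT k hz
    rw [hie] at h1
    exact h1
  · rw [hβ, Iso.inv_hom_id_assoc]

/-- the lifting property is stable under composition -/
theorem lifts_comp {Y' Y Z : Scheme.{u}} (j' : Y' ⟶ Y) (j : Y ⟶ Z) (j'' : Y' ⟶ Z)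
    [IsOpenImmersion j'] [IsOpenImmersion j] [IsOpenImmersion j''] (h : j'' = j' ≫ j)
    [QuasiCompact j] (h' : Lifts j') (hj : Lifts j) : Lifts j'' := by
  intro T hT hTc E hE P hP hPT α
  let c := restrictDComp j' j j'' h
  obtain ⟨R', β', i', p', hR', hR's, hip', hiβ'⟩ := h' (j.base ⁻¹' T) (hT.preimage j.continuous)
    (by
      rw [← Set.preimage_compl]
      exact QuasiCompact.isCompact_preimage (f := j) _ hT.isOpen_compl hTc)
    ((DCoh.restrictD j).obj E) (isQCohD_restrict j E hE) P hP (fun k y hy => by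
      have h1 : j''.base y ∈ T := hPT k hy
      have h2 : j''.base y = j.base (j'.base y) := by
        subst h
        rfl
      rw [h2] at h1
      exact h1) (α ≫ c.hom.app E)
  obtain ⟨R, β, i, p, hR, hRs, hip, hiβ⟩ := hj T hT hTc E hE R' hR' hR's β'
  refine ⟨R, β, i' ≫ (DCoh.restrictD j').map i ≫ c.inv.app R,
    c.hom.app R ≫ (DCoh.restrictD j').map p ≫ p', hR, hRs, ?_, ?_⟩
  · simp only [Category.assoc, Iso.inv_hom_id_app_assoc]
    rw [← Functor.map_comp_assoc, hip, CategoryTheory.Functor.map_id, Category.id_comp, hip']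
  · have hn := c.inv.naturality β
    simp only [Functor.comp_map] at hn
    simp only [Category.assoc]
    rw [← hn, ← Functor.map_comp_assoc, hiβ, reassoc_of% hiβ', Iso.hom_inv_id_app,
      Category.comp_id]

/-- the gluing step gives the lifting property for `U ⊆ U ∪ V`, `V` affine -/
theorem lifts_of_cover {Z : Scheme.{u}} [QuasiSeparatedSpace Z] (U V : Z.Opens)
    (hV : IsAffineOpen V) (hUV : IsCompact ((U ⊓ V : Z.Opens) : Set Z)) (hcov : U ⊔ V = ⊤) :
    Lifts U.ι := by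
  intro T hT hTc E hE P hP hPT α
  have hTV : IsCompact ((V.ι.base ⁻¹' T)ᶜ) := by
    haveI : CompactSpace (V : Scheme.{u}) := isCompact_iff_compactSpace.1 hV.isCompact
    rw [← Set.preimage_compl]
    exact QuasiCompact.isCompact_preimage (f := V.ι) _ hT.isOpen_compl hTc
  obtain ⟨R, ρ, θ, hR, hRs, hρ⟩ := step_glue U V hV hUV hcov T hT hTV P hP hPT E hE α
  refine ⟨R, ρ, biprod.inl ≫ θ.inv, θ.hom ≫ biprod.fst, hR, hRs, ?_, ?_⟩
  · simp
  · rw [hρ]
    simp

/-- the lifting property for `W ⊆ W ∪ V`, `V` affine, inside a quasi-separated scheme -/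
theorem lifts_homOfLE_sup (X : Scheme.{u}) [QuasiSeparatedSpace X] (W : X.Opens)
    (hW : IsCompact (W : Set X)) (V : X.affineOpens) (W' : X.Opens) (hW' : W' = W ⊔ V.1)
    (hle : W ≤ W') : Lifts (X.homOfLE hle) := by
  subst hW'
  let Y : X.Opens := W ⊔ V.1
  have hV' : IsAffineOpen (Y.ι ⁻¹ᵁ V.1) := by
    refine V.2.preimage_of_isOpenImmersion Y.ι ?_
    rw [Scheme.Opens.opensRange_ι]
    exact le_sup_right
  have hWV : IsCompact ((W ⊓ V.1 : X.Opens) : Set X) := by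
    rw [TopologicalSpace.Opens.coe_inf]
    exact QuasiSeparatedSpace.inter_isCompact _ _ W.isOpen hW V.1.isOpen V.2.isCompact
  have hWV' : IsCompact (((Y.ι ⁻¹ᵁ W ⊓ Y.ι ⁻¹ᵁ V.1 : (Y : Scheme.{u}).Opens)) :
      Set (Y : Scheme.{u})) := by
    have h1 := isCompact_preimage_ι (W ⊓ V.1) Y (by
      have : (W ⊓ V.1) ⊓ Y = W ⊓ V.1 := inf_eq_left.2 (inf_le_left.trans le_sup_left)
      rw [this]
      exact hWV)
    exact h1
  have hcov : Y.ι ⁻¹ᵁ W ⊔ Y.ι ⁻¹ᵁ V.1 = ⊤ := by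
    have : Y.ι ⁻¹ᵁ W ⊔ Y.ι ⁻¹ᵁ V.1 = Y.ι ⁻¹ᵁ Y := rfl
    rw [this, Scheme.Opens.ι_preimage_self]
  haveI : QuasiSeparatedSpace ↥(Y : Scheme.{u}) := Y.ι.isOpenEmbedding.quasiSeparatedSpace
  have h1 : Lifts (Y.ι ⁻¹ᵁ W).ι := lifts_of_cover (Z := (Y : Scheme.{u})) _ _ hV' hWV' hcov
  have hY : IsCompact (Y : Set X) := by
    show IsCompact ((W : Set X) ∪ (V.1 : Set X))
    exact hW.union V.2.isCompact
  haveI : CompactSpace (Y : Scheme.{u}) := isCompact_iff_compactSpace.1 hY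
  haveI : CompactSpace ((Y.ι ⁻¹ᵁ W : (Y : Scheme.{u}).Opens) : Scheme.{u}) :=
    isCompact_iff_compactSpace.1 (isCompact_preimage_ι W Y (by
      have : W ⊓ Y = W := inf_sup_self
      rw [this]
      exact hW))
  refine lifts_comp (Scheme.Opens.isoOfLE hle).inv (Y.ι ⁻¹ᵁ W).ι _ ?_
    (lifts_of_isIso _) h1
  rw [← cancel_mono Y.ι, Category.assoc, Scheme.Opens.isoOfLE_inv_ι, Scheme.homOfLE_ι]

/-- the lifting property for `U ⊆ U ∪ S`, `S` quasi-compact open -/
theorem lifts_homOfLE (X : Scheme.{u}) [QuasiSeparatedSpace X] (U : X.Opens)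
    (hU : IsCompact (U : Set X)) (S : X.Opens) (hS : IsCompact (S : Set X)) :
    Lifts (X.homOfLE (le_sup_left : U ≤ U ⊔ S)) := by
  refine compact_open_induction_on
    (P := fun S : X.Opens => Lifts (X.homOfLE (le_sup_left : U ≤ U ⊔ S))) S hS ?_ ?_
  · haveI : IsIso (X.homOfLE (le_sup_left : U ≤ U ⊔ ⊥)) :=
      ⟨X.homOfLE (le_of_eq (sup_bot_eq U) : U ⊔ ⊥ ≤ U), by
        rw [Scheme.homOfLE_homOfLE]
        exact X.homOfLE_rfl _, by
        rw [Scheme.homOfLE_homOfLE]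
        exact X.homOfLE_rfl _⟩
    exact lifts_of_isIso _
  · intro S hS V hSA
    have hUS : IsCompact ((U ⊔ S : X.Opens) : Set X) := by
      show IsCompact ((U : Set X) ∪ (S : Set X))
      exact hU.union hS
    haveI : CompactSpace ((U ⊔ S : X.Opens) : Scheme.{u}) := isCompact_iff_compactSpace.1 hUS
    haveI : QuasiSeparatedSpace ↥((U ⊔ (S ⊔ V.1) : X.Opens) : Scheme.{u}) :=
      (U ⊔ (S ⊔ V.1) : X.Opens).ι.isOpenEmbedding.quasiSeparatedSpace
    have h2 := lifts_homOfLE_sup X (U ⊔ S) hUS V (U ⊔ (S ⊔ V.1)) (sup_assoc _ _ _).symm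
      (sup_le_sup_left le_sup_left U)
    refine lifts_comp (X.homOfLE (le_sup_left : U ≤ U ⊔ S))
      (X.homOfLE (sup_le_sup_left le_sup_left U : U ⊔ S ≤ U ⊔ (S ⊔ V.1))) _ ?_ hSA h2
    exact (X.homOfLE_homOfLE _ _).symm

/-- **lifting maps from perfect complexes with supports** -/
theorem lifts_ι (X : Scheme.{u}) [CompactSpace X] [QuasiSeparatedSpace X] (U : X.Opens)
    (hU : IsCompact (U : Set X)) : Lifts U.ι := by
  have h1 := lifts_homOfLE X U hU ⊤ isCompact_univ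
  have htop : U ⊔ ⊤ = (⊤ : X.Opens) := sup_top_eq U
  haveI : IsIso (U ⊔ ⊤ : X.Opens).ι := by
    rw [htop]
    exact inferInstanceAs (IsIso X.topIso.hom)
  haveI : CompactSpace ((U ⊔ ⊤ : X.Opens) : Scheme.{u}) := by
    rw [htop]
    exact isCompact_iff_compactSpace.1 isCompact_univ
  refine lifts_comp (X.homOfLE (le_sup_left : U ≤ U ⊔ ⊤)) (U ⊔ ⊤ : X.Opens).ι U.ι
    (X.homOfLE_ι _).symm h1 (lifts_of_isIso _)

end Groth.Agent.Lib.Helper2.Glue
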