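import Groth.Agent.Lib.Helper2.Glue.Step
import Groth.Agent.Lib.Helper2.Aff.PCBound

/-!
# Approximation by perfect complexes: the induction step `U ⊆ U ∪ V`, `V` affine (helper2)

Stacks 36.14.5.
-/

set_option autoImplicit false
set_option linter.style.haveILetI false
universe u
open CategoryTheory CategoryTheory.Limits CategoryTheory.Pretriangulated DerivedCategory
  AlgebraicGeometry

attribute [local instance] HasDerivedCategory.standard

namespace Groth.Agent.Lib.Helper2.Glue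

open Groth.Agent.Lib.Helper2.Aff Groth.Agent.Lib.Helper2.Stk Groth.Agent.Lib.Helper13
  AlgebraicGeometry.Scheme.Modules Groth.Agent.Lib.Helper13.GoodMap
  Groth.Agent.Lib.Helper13.PCohTri Groth.Agent.Lib.Helper2.Kos
  Groth.Agent.Lib.Helper2.Aff.AffModel

attribute [local instance] Groth.Agent.Lib.Helper2.Stk.hasRpush

/-- approximation holds for the triple `(T, E, m)` -/
def Approx {X : Scheme.{u}} (T : Set X) (E : DCoh.D X) (m : ℤ) : Prop :=
  ∃ (P : DCoh.D X) (α : P ⟶ E), DCoh.IsPerfect P ∧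
    (∀ i : ℤ, CohB1.support (DCoh.HD P i) ⊆ T) ∧ Good m α

/-- approximation by perfect complexes holds on `X` -/
def ApproxHolds (X : Scheme.{u}) : Prop :=
  ∀ (T : Set X), IsClosed T → IsRetrocompact Tᶜ → ∃ r : ℤ, ∀ (m : ℤ) (E : DCoh.D X),
    DCoh.IsQCohD E → DCoh.IsPseudoCoherentD (m - r) E →
    (∀ i : ℤ, m - r ≤ i → CohB1.support (DCoh.HD E i) ⊆ T) → Approx T E m

variable {X : Scheme.{u}}

theorem isCompact_preimage_ι (U V : X.Opens)
    (hUV : IsCompact ((U ⊓ V : X.Opens) : Set X)) :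
    IsCompact ((V.ι ⁻¹ᵁ U : (V : Scheme.{u}).Opens) : Set (V : Scheme.{u})) := by
  rw [V.ι.isOpenEmbedding.isInducing.isCompact_iff]
  have h1 : V.ι.base '' ((V.ι ⁻¹ᵁ U : (V : Scheme.{u}).Opens) : Set (V : Scheme.{u})) =
      ((U ⊓ V : X.Opens) : Set X) := by
    show V.ι.base '' (V.ι.base ⁻¹' (U : Set X)) = _
    rw [Set.image_preimage_eq_inter_range, Scheme.Opens.range_ι]
    rfl
  rw [h1]
  exact hUV

/-- **Induction step for approximation by perfect complexes** (Stacks 36.14.5) -/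
theorem approxHolds_step (U V : X.Opens) (hU : IsCompact (U : Set X)) (hV : IsAffineOpen V)
    (hUV : IsCompact ((U ⊓ V : X.Opens) : Set X)) (hcov : U ⊔ V = ⊤)
    (hAU : ApproxHolds (U : Scheme.{u})) : ApproxHolds X := by
  intro T hT hTc
  haveI : IsAffine (V : Scheme.{u}) := hV
  haveI : CompactSpace (U : Scheme.{u}) := isCompact_iff_compactSpace.1 hU
  obtain ⟨r₀, hr₀⟩ := hAU (U.ι.base ⁻¹' T) (hT.preimage U.ι.continuous) (by
    rw [← Set.preimage_compl]
    exact hTc.preimage_of_isOpenEmbedding U.ι.isOpenEmbedding)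
  have hTVc : IsClosed (V.ι.base ⁻¹' T) := hT.preimage V.ι.continuous
  have hTV : IsCompact ((V.ι.base ⁻¹' T)ᶜ) := by
    have h1 : IsRetrocompact ((V.ι.base ⁻¹' T)ᶜ) := by
      rw [← Set.preimage_compl]
      exact hTc.preimage_of_isOpenEmbedding V.ι.isOpenEmbedding
    exact h1.isCompact
  have hW := isCompact_preimage_ι U V hUV
  let O : (V : Scheme.{u}).Opens := ⟨(V.ι.base ⁻¹' T)ᶜ, hTVc.isOpen_compl⟩ ⊔ (V.ι ⁻¹ᵁ U)
  have hO : IsCompact (O : Set (V : Scheme.{u})) := by
    show IsCompact ((⟨(V.ι.base ⁻¹' T)ᶜ, hTVc.isOpen_compl⟩ ⊔ (V.ι ⁻¹ᵁ U) :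
      (V : Scheme.{u}).Opens) : Set (V : Scheme.{u}))
    rw [TopologicalSpace.Opens.coe_sup]
    exact hTV.union hW
  obtain ⟨fs, hfs⟩ := exists_list_compl_eq (V : Scheme.{u}) O hO
  have hOT : ((O : Set (V : Scheme.{u})))ᶜ = {v | V.ι.base v ∈ T \ (U : Set X)} := by
    ext v
    show v ∉ ((⟨(V.ι.base ⁻¹' T)ᶜ, hTVc.isOpen_compl⟩ ⊔ (V.ι ⁻¹ᵁ U) :
      (V : Scheme.{u}).Opens) : Set (V : Scheme.{u})) ↔ _
    rw [TopologicalSpace.Opens.coe_sup]
    constructor
    · intro h
      refine ⟨?_, fun hu => h (Or.inr hu)⟩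
      by_contra hT'
      exact h (Or.inl hT')
    · rintro ⟨h1, h2⟩ (h | h)
      · exact h h1
      · exact h2 h
  have hT'c : IsClosed (T \ (U : Set X)) := hT.sdiff U.isOpen
  have hT'V : T \ (U : Set X) ⊆ (V : Set X) := by
    rintro x ⟨-, hxU⟩
    have hx : x ∈ ((U ⊔ V : X.Opens) : Set X) := by rw [hcov]; trivial
    rw [TopologicalSpace.Opens.coe_sup] at hx
    rcases hx with h | h
    · exact absurd h hxU
    · exact h
  refine ⟨max r₀ 0 + (fs.length : ℤ), fun m E hE hpc hsupp => ?_⟩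
  have hr₁ : r₀ ≤ max r₀ 0 := le_max_left _ _
  have hr₂ : (0 : ℤ) ≤ max r₀ 0 := le_max_right _ _
  have key : ∀ (d : ℕ) (E : DCoh.D X), DCoh.IsQCohD E →
      DCoh.IsPseudoCoherentD (m - (max r₀ 0 + (fs.length : ℤ))) E →
      (∀ i : ℤ, m - (max r₀ 0 + (fs.length : ℤ)) ≤ i → CohB1.support (DCoh.HD E i) ⊆ T) →
      (∀ i : ℤ, m - (fs.length : ℤ) + (d : ℤ) ≤ i →
        IsZero (DCoh.HD ((DCoh.restrictD U.ι).obj E) i)) → Approx T E m := by
    intro d
    induction d with
    | zero =>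
      intro E hE hpc hsupp hvan
      have hsupp' : ∀ i : ℤ, m - (fs.length : ℤ) ≤ i →
          CohB1.support (DCoh.HD E i) ⊆ T \ (U : Set X) := by
        intro i hi x hx
        refine ⟨hsupp i (by omega) hx, fun hxU => ?_⟩
        have h1 : (⟨x, hxU⟩ : ↥(U : Scheme.{u})) ∈
            CohB1.support (DCoh.HD ((DCoh.restrictD U.ι).obj E) i) := by
          rw [support_HD_restrictD U.ι E i]
          exact hx
        rw [Qcqs.support_eq_empty_of_isZero (hvan i (by push_cast; omega))] at h1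
        exact h1
      obtain ⟨PV, αV, hPV, hPVs, hαV⟩ := approx_affine_list (V : Scheme.{u}) fs m
        ((DCoh.restrictD V.ι).obj E) (isQCohD_restrict V.ι E hE)
        (PCB.isPC_mono (by omega) _ (ClImmPC.isPC_restrict V.ι hpc)) (fun i hi => by
          rw [← hfs, hOT, support_HD_restrictD V.ι E i]
          intro x hx
          exact hsupp' i (by omega) hx)
      obtain ⟨P', α', hP', hP's, hα'⟩ := ApproxOpen.approximation_of_open V (T \ (U : Set X))
        hT'c hT'V E m PV αV hPV (fun i => by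
          have := hPVs i
          rw [← hfs, hOT] at this
          exact this) hαV (fun i hi => hsupp' i (by omega))
      exact ⟨P', α', hP', fun i => (hP's i).trans Set.sdiff_subset, hα'⟩
    | succ d ih =>
      intro E hE hpc hsupp hvan
      obtain ⟨P₀, α₀, hP₀, hP₀s, hα₀⟩ := hr₀ (m - (fs.length : ℤ)) ((DCoh.restrictD U.ι).obj E)
        (isQCohD_restrict U.ι E hE)
        (PCB.isPC_mono (by omega) _ (ClImmPC.isPC_restrict U.ι hpc)) (fun i hi => by
          rw [support_HD_restrictD U.ι E i]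
          intro x hx
          exact hsupp i (by omega) hx)
      obtain ⟨R, ρ, θ, hR, hRs, hρ⟩ := step_glue U V hV hUV hcov T hT hTV P₀ hP₀
        (fun i => hP₀s i) E hE α₀
      obtain ⟨E', c, dd, hTri⟩ := distinguished_cocone_triangle ρ
      obtain ⟨hE', hpc', hsupp'⟩ := cone_props T hT _ ρ c dd hTri hR hRs hE hpc hsupp
      have hvan' : ∀ i : ℤ, m - (fs.length : ℤ) + (d : ℤ) ≤ i →
          IsZero (DCoh.HD ((DCoh.restrictD U.ι).obj E') i) := by
        intro i hi
        exact isZero_HD_cone_biprod ((DCoh.restrictD U.ι).mapTriangle.obj (Triangle.mk ρ c dd))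
          ((DCoh.restrictD U.ι).map_distinguished _ hTri) P₀ (m - (fs.length : ℤ))
          (m - (fs.length : ℤ) + ((d + 1 : ℕ) : ℤ)) (by push_cast; omega) α₀ hα₀
          (fun j hj => hvan j hj) θ hρ i (by omega) (by push_cast; omega)
      obtain ⟨P', α', hP', hP's, hα'⟩ := ih E' hE' hpc' hsupp' hvan'
      exact approx_lift_sch T hT m ρ c dd hTri hR hRs P' α' hP' hP's hα'
  obtain ⟨b, hb⟩ := PCB.exists_isLE_of_isPC _ ((DCoh.restrictD U.ι).obj E)
    (ClImmPC.isPC_restrict U.ι hpc)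
  refine key (b + 1 - (m - (fs.length : ℤ))).toNat E hE hpc hsupp (fun i hi => ?_)
  haveI := hb
  have h1 := Int.self_le_toNat (b + 1 - (m - (fs.length : ℤ)))
  exact DerivedCategory.isZero_of_isLE _ b i (by omega)

end Groth.Agent.Lib.Helper2.Glue
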