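import Groth.Agent.Lib.Helper2.Glue.Tools

/-!
# The gluing step: extending a map from a perfect complex across an affine open (helper2)
-/

set_option autoImplicit false
set_option linter.style.haveILetI false
universe u
open CategoryTheory CategoryTheory.Limits CategoryTheory.Pretriangulated DerivedCategory
  AlgebraicGeometry

attribute [local instance] HasDerivedCategory.standard

namespace Groth.Agent.Lib.Helper2.Glue

open Groth.Agent.Lib.Helper2.Aff Groth.Agent.Lib.Helper2.Stk Groth.Agent.Lib.Helper13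
  AlgebraicGeometry.Scheme.Modules Groth.Agent.Lib.Helper13.GoodMap
  Groth.Agent.Lib.Helper13.PCohTri Groth.Agent.Lib.Helper2.Kos
  Groth.Agent.Lib.Helper2.Aff.AffModel

attribute [local instance] Groth.Agent.Lib.Helper2.Stk.hasRpush

variable {X : Scheme.{u}}

/-- perfectness is local on a two-element open cover -/
theorem isPerfect_of_cover (U V : X.Opens) (hcov : U ⊔ V = ⊤) (K : DCoh.D X)
    (hU : DCoh.IsPerfect ((DCoh.restrictD U.ι).obj K))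
    (hV : DCoh.IsPerfect ((DCoh.restrictD V.ι).obj K)) : DCoh.IsPerfect K := by
  apply PerfTri.isPerfect_of_LPD
  intro x
  have hx : x ∈ ((U ⊔ V : X.Opens) : Set X) := by rw [hcov]; trivial
  rw [TopologicalSpace.Opens.coe_sup] at hx
  rcases hx with hx | hx
  · obtain ⟨V', hxV', E, hE, ⟨e⟩⟩ := (PerfTri.isPerfect_iff _).1 hU ⟨x, hx⟩
    obtain ⟨c⟩ := PerfTri.nonempty_resD_comp V'.ι U.ι (V'.ι ≫ U.ι) rfl K
    exact ⟨V', V'.ι ≫ U.ι, inferInstance, ⟨⟨x, hx⟩, hxV'⟩, rfl, E, hE, ⟨c.symm ≪≫ e⟩⟩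
  · obtain ⟨V', hxV', E, hE, ⟨e⟩⟩ := (PerfTri.isPerfect_iff _).1 hV ⟨x, hx⟩
    obtain ⟨c⟩ := PerfTri.nonempty_resD_comp V'.ι V.ι (V'.ι ≫ V.ι) rfl K
    exact ⟨V', V'.ι ≫ V.ι, inferInstance, ⟨⟨x, hx⟩, hxV'⟩, rfl, E, hE, ⟨c.symm ≪≫ e⟩⟩

/-- supports are local on a two-element open cover -/
theorem supp_of_cover (U V : X.Opens) (hcov : U ⊔ V = ⊤) (T : Set X) (K : DCoh.D X) (i : ℤ)
    (hU : CohB1.support (DCoh.HD ((DCoh.restrictD U.ι).obj K) i) ⊆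
      {v : ↥(U : Scheme.{u}) | U.ι.base v ∈ T})
    (hV : CohB1.support (DCoh.HD ((DCoh.restrictD V.ι).obj K) i) ⊆
      {v : ↥(V : Scheme.{u}) | V.ι.base v ∈ T}) :
    CohB1.support (DCoh.HD K i) ⊆ T := by
  intro x hx
  have hx' : x ∈ ((U ⊔ V : X.Opens) : Set X) := by rw [hcov]; trivial
  rw [TopologicalSpace.Opens.coe_sup] at hx'
  rcases hx' with hxU | hxV
  · have h1 : (⟨x, hxU⟩ : ↥(U : Scheme.{u})) ∈
        CohB1.support (DCoh.HD ((DCoh.restrictD U.ι).obj K) i) := by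
      rw [support_HD_restrictD U.ι K i]
      exact hx
    exact hU h1
  · have h1 : (⟨x, hxV⟩ : ↥(V : Scheme.{u})) ∈
        CohB1.support (DCoh.HD ((DCoh.restrictD V.ι).obj K) i) := by
      rw [support_HD_restrictD V.ι K i]
      exact hx
    exact hV h1

section Biprod

variable {Y : Scheme.{u}}

theorem isIso_H_fst (P Q : DCoh.D Y) (i : ℤ) (hQ : IsZero (DCoh.HD Q i)) :
    IsIso ((DerivedCategory.homologyFunctor Y.Modules i).map (biprod.fst : P ⊞ Q ⟶ P)) := by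
  refine ⟨⟨(DerivedCategory.homologyFunctor Y.Modules i).map biprod.inl, ?_, ?_⟩⟩
  · have h := congrArg (fun f => (DerivedCategory.homologyFunctor Y.Modules i).map f)
      (biprod.total (X := P) (Y := Q))
    simp only [Functor.map_add, Functor.map_comp, CategoryTheory.Functor.map_id] at h
    have h0 : (DerivedCategory.homologyFunctor Y.Modules i).map (biprod.snd : P ⊞ Q ⟶ Q) = 0 :=
      hQ.eq_of_tgt _ _
    rw [h0, zero_comp, add_zero] at h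
    exact h
  · rw [← Functor.map_comp, biprod.inl_fst, CategoryTheory.Functor.map_id]

theorem epi_H_fst (P Q : DCoh.D Y) (i : ℤ) :
    Epi ((DerivedCategory.homologyFunctor Y.Modules i).map (biprod.fst : P ⊞ Q ⟶ P)) := by
  have h : (DerivedCategory.homologyFunctor Y.Modules i).map (biprod.inl : P ⟶ P ⊞ Q) ≫
      (DerivedCategory.homologyFunctor Y.Modules i).map (biprod.fst : P ⊞ Q ⟶ P) = 𝟙 _ := by
    rw [← Functor.map_comp, biprod.inl_fst, CategoryTheory.Functor.map_id]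
  exact epi_of_epi_fac h

theorem isZero_HD_shift (P : DCoh.D Y) (i j : ℤ) (hij : 1 + i = j) (h : IsZero (DCoh.HD P j)) :
    IsZero (DCoh.HD (P⟦(1 : ℤ)⟧) i) := by
  have e := (DerivedCategory.homologyFunctor Y.Modules 0).shiftIso 1 i j hij
  exact h.of_iso (e.app P)

/-- the cone of `P₀ ⊕ P₀[1] ⟶ P₀ ⟶ L`, for a good map `P₀ ⟶ L` into a bounded above object -/
theorem isZero_HD_cone_biprod (T' : Triangle (DCoh.D Y)) (hT' : T' ∈ distTriang _)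
    (P₀ : DCoh.D Y) (m₁ N : ℤ) (hN : m₁ < N) (α₀ : P₀ ⟶ T'.obj₂) (hα₀ : Good m₁ α₀)
    (hL : ∀ i : ℤ, N ≤ i → IsZero (DCoh.HD T'.obj₂ i))
    (θ : T'.obj₁ ≅ P₀ ⊞ P₀⟦(1 : ℤ)⟧) (hf : T'.mor₁ = θ.hom ≫ biprod.fst ≫ α₀)
    (i : ℤ) (hi : m₁ ≤ i) (hiN : N ≤ i + 2) : IsZero (DCoh.HD T'.obj₃ i) := by
  have hP₀ : ∀ j : ℤ, N ≤ j → IsZero (DCoh.HD P₀ j) := by
    intro j hj
    haveI := hα₀.1 j (by omega)
    exact (hL j hj).of_iso (asIso ((DerivedCategory.homologyFunctor Y.Modules j).map α₀))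
  refine isZero_HD_cone T' hT' i (i + 1) rfl ?_ ?_
  · rw [hf, Functor.map_comp, Functor.map_comp]
    haveI := epi_H_fst P₀ (P₀⟦(1 : ℤ)⟧) i
    haveI := hα₀.epi i hi
    infer_instance
  · rw [hf, Functor.map_comp, Functor.map_comp]
    haveI := isIso_H_fst P₀ (P₀⟦(1 : ℤ)⟧) (i + 1)
      (isZero_HD_shift P₀ (i + 1) (i + 2) (by omega) (hP₀ (i + 2) hiN))
    haveI := hα₀.1 (i + 1) (by omega)
    infer_instance

end Biprod

section Affine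

attribute [local instance] Groth.Agent.Lib.Helper14.preservesFiniteLimits_tilde

/-- lifting maps from perfect complexes over a quasi-compact open of an affine scheme, with
control of supports -/
theorem lift_map_supp_affine (X : Scheme.{u}) [IsAffine X] (U : X.Opens)
    (hU : IsCompact (U : Set X)) (E E' : DCoh.D X) (hE : DCoh.IsPerfect E)
    (hE' : DCoh.IsQCohD E')
    (α : (DCoh.restrictD U.ι).obj E ⟶ (DCoh.restrictD U.ι).obj E') :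
    ∃ (E₁ : DCoh.D X) (β : E₁ ⟶ E) (γ : E₁ ⟶ E'), DCoh.IsPerfect E₁ ∧
      IsIso ((DCoh.restrictD U.ι).map β) ∧
      (DCoh.restrictD U.ι).map β ≫ α = (DCoh.restrictD U.ι).map γ ∧
      ∀ V : X.Opens, IsZero ((DCoh.restrictD V.ι).obj E) →
        IsZero ((DCoh.restrictD V.ι).obj E₁) := by
  obtain ⟨fs, hfs⟩ := exists_list_compl_eq X U hU
  let e : X ⟶ Spec (CommRingCat.of ↑Γ(X, ⊤)) := X.toSpecΓ
  haveI : IsIso e := inferInstanceAs (IsIso X.toSpecΓ)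
  haveI : QuasiSeparatedSpace X := inferInstance
  refine lift_map_supp e U fs ?_ hU E E' hE hE' α
  rw [hfs]
  exact (X.toSpecΓ_preimage_zeroLocus _).symm

/-- `F ⊕ F[1]` extends with supports, derived category form -/
theorem extend_affine' (X : Scheme.{u}) [IsAffine X] (T : Set X) (hT : IsClosed T)
    (hTc : IsCompact Tᶜ) (U : X.Opens) (hU : IsCompact (U : Set X))
    (F : DCoh.D (U : Scheme.{u})) (hF : DCoh.IsPerfect F)
    (hFT : ∀ i : ℤ, CohB1.support (DCoh.HD F i) ⊆ {x : ↥(U : Scheme.{u}) | U.ι.base x ∈ T})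
    [HasBinaryBiproduct F (F⟦(1 : ℤ)⟧)] :
    ∃ G : DCoh.D X, DCoh.IsPerfect G ∧
      (∀ i : ℤ, CohB1.support (DCoh.HD G i) ⊆ T) ∧
      Nonempty ((DCoh.restrictD U.ι).obj G ≅ F ⊞ F⟦(1 : ℤ)⟧) := by
  obtain ⟨G, hG, hGs, ⟨φ⟩⟩ := extend_affine X T hT hTc U hU F hF hFT
  exact ⟨DCoh.toD X G, hG, hGs,
    ⟨(Scheme.Modules.restrictFunctor U.ι).mapDerivedCategoryFactors.app G ≪≫ φ⟩⟩

/-- approximation on an affine scheme, list form -/
theorem approx_affine_list (X : Scheme.{u}) [IsAffine X] (fs : List Γ(X, ⊤))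
    (m : ℤ) (E : DCoh.D X) (hq : DCoh.IsQCohD E) (hpc : DCoh.IsPseudoCoherentD m E)
    (hsupp : ∀ i : ℤ, m - (fs.length : ℤ) + 1 ≤ i →
      CohB1.support (DCoh.HD E i) ⊆ X.zeroLocus (U := ⊤) {a | a ∈ fs}) :
    ∃ (P : DCoh.D X) (α : P ⟶ E), DCoh.IsPerfect P ∧
      (∀ i : ℤ, CohB1.support (DCoh.HD P i) ⊆ X.zeroLocus (U := ⊤) {a | a ∈ fs}) ∧
      Good m α := by
  let e : X ⟶ Spec (CommRingCat.of ↑Γ(X, ⊤)) := X.toSpecΓ
  haveI : IsIso e := inferInstanceAs (IsIso X.toSpecΓ)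
  have hz : X.zeroLocus (U := ⊤) {a | a ∈ fs} = e.base ⁻¹' zl {a | a ∈ fs} :=
    (X.toSpecΓ_preimage_zeroLocus _).symm
  obtain ⟨P, α, hP, hPs, hα⟩ := approx_Tm e fs m E hq hpc (fun i hi => by
    rw [← hz]
    exact hsupp i hi)
  exact ⟨P, α, hP, fun i => by rw [hz]; exact hPs i, hα⟩

end Affine

section Additive

variable {C D : Type*} [Category C] [Category D] [Preadditive C] [Preadditive D]
  [HasShift C ℤ] [HasShift D ℤ] [HasBinaryBiproducts C] [HasBinaryBiproducts D]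

/-- additive functors commuting with shifts preserve `P ⊕ P[1]` -/
lemma nonempty_map_biprod_shift (Φ : C ⥤ D) [Φ.Additive] [Φ.CommShift ℤ] (P : C) :
    Nonempty (Φ.obj (P ⊞ P⟦(1 : ℤ)⟧) ≅ Φ.obj P ⊞ (Φ.obj P)⟦(1 : ℤ)⟧) := by
  haveI : PreservesBinaryBiproducts Φ := preservesBinaryBiproducts_of_preservesBiproducts Φ
  exact ⟨Φ.mapBiprod P (P⟦(1 : ℤ)⟧) ≪≫
    biprod.mapIso (Iso.refl _) ((Φ.commShiftIso (1 : ℤ)).app P)⟩

omit [HasShift D ℤ] in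
lemma isZero_biprod {A B : D} (hA : IsZero A) (hB : IsZero B) : IsZero (A ⊞ B) := by
  rw [IsZero.iff_id_eq_zero]
  apply biprod.hom_ext
  · exact hA.eq_of_tgt _ _
  · exact hB.eq_of_tgt _ _

end Additive

/-- supports of `P ⊕ P[1]` -/
theorem supp_biprod_shift (T : Set X) (hT : IsClosed T) (P : DCoh.D X)
    (h : ∀ i : ℤ, CohB1.support (DCoh.HD P i) ⊆ T) (i : ℤ) :
    CohB1.support (DCoh.HD (P ⊞ P⟦(1 : ℤ)⟧) i) ⊆ T := by
  revert i
  rw [supp_iff T hT] at h ⊢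
  obtain ⟨e⟩ := nonempty_map_biprod_shift (DCoh.restrictD (cOpen T hT).ι) P
  refine IsZero.of_iso (isZero_biprod h ?_) e
  exact (shiftFunctor _ (1 : ℤ)).map_isZero h

theorem isPerfect_biprod_shift (P : DCoh.D X) (hP : DCoh.IsPerfect P) :
    DCoh.IsPerfect (P ⊞ P⟦(1 : ℤ)⟧) :=
  (PerfTri.two_of_three _ (binaryBiproductTriangle_distinguished P (P⟦(1 : ℤ)⟧))).2.1 hP
    (PerfTri.isPerfect_shift P 1 hP)

/-- over `U ∩ V`, the unit of `U` is invertible -/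
theorem isIso_res_res_unit (U V : X.Opens) (E : DCoh.D X) :
    IsIso ((DCoh.restrictD (V.ι ⁻¹ᵁ U).ι).map
      ((DCoh.restrictD V.ι).map ((Corefl.adjOpen U.ι).unit.app E))) := by
  haveI := OpenFF.isIso_counit U.ι (Corefl.adjOpen U.ι)
  obtain ⟨cs, tri⟩ := exists_isTriangulated_Rpush U.ι
  letI := cs
  refine isIso_map_map_unit (Corefl.adjOpen U.ι) ?_ E
  intro K hK
  refine isZero_restrictD_restrictD V.ι (V.ι ⁻¹ᵁ U).ι U.ι ?_ K hK
  rintro _ ⟨w, rfl⟩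
  have hw : V.ι.base ((V.ι ⁻¹ᵁ U).ι.base w) ∈ U := w.2
  exact ⟨⟨_, hw⟩, rfl⟩

/-- **The gluing step**: a map from a perfect complex on `U` to `E|_U` extends, after adding
the summand `P₀[1]`, across the affine open `V`. -/
theorem step_glue (U V : X.Opens) (hV : IsAffineOpen V)
    (hUV : IsCompact ((U ⊓ V : X.Opens) : Set X)) (hcov : U ⊔ V = ⊤)
    (T : Set X) (hT : IsClosed T) (hTV : IsCompact ((V.ι.base ⁻¹' T)ᶜ))
    (P₀ : DCoh.D (U : Scheme.{u})) (hP₀ : DCoh.IsPerfect P₀)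
    (hP₀s : ∀ i : ℤ, CohB1.support (DCoh.HD P₀ i) ⊆ {v : ↥(U : Scheme.{u}) | U.ι.base v ∈ T})
    (E : DCoh.D X) (hE : DCoh.IsQCohD E) (α₀ : P₀ ⟶ (DCoh.restrictD U.ι).obj E) :
    ∃ (R : DCoh.D X) (ρ : R ⟶ E) (θ : (DCoh.restrictD U.ι).obj R ≅ P₀ ⊞ P₀⟦(1 : ℤ)⟧),
      DCoh.IsPerfect R ∧ (∀ i : ℤ, CohB1.support (DCoh.HD R i) ⊆ T) ∧
      (DCoh.restrictD U.ι).map ρ = θ.hom ≫ biprod.fst ≫ α₀ := by
  haveI : IsAffine (V : Scheme.{u}) := hV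
  have hW : IsCompact ((V.ι ⁻¹ᵁ U : (V : Scheme.{u}).Opens) : Set (V : Scheme.{u})) := by
    rw [V.ι.isOpenEmbedding.isInducing.isCompact_iff]
    have h1 : V.ι.base '' ((V.ι ⁻¹ᵁ U : (V : Scheme.{u}).Opens) : Set (V : Scheme.{u})) =
        ((U ⊓ V : X.Opens) : Set X) := by
      show V.ι.base '' (V.ι.base ⁻¹' (U : Set X)) = _
      rw [Set.image_preimage_eq_inter_range, Scheme.Opens.range_ι]
      rfl
    rw [h1]
    exact hUV
  have hTVc : IsClosed (V.ι.base ⁻¹' T) := hT.preimage V.ι.continuous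
  let adjU := Corefl.adjOpen U.ι
  haveI := OpenFF.isIso_counit U.ι adjU
  obtain ⟨cs, tri⟩ := exists_isTriangulated_Rpush U.ι
  letI := cs
  haveI := tri
  have hWU : Set.range ((V.ι ⁻¹ᵁ U).ι ≫ V.ι) ⊆ Set.range U.ι := by
    rintro _ ⟨w, rfl⟩
    have hw : V.ι.base ((V.ι ⁻¹ᵁ U).ι.base w) ∈ U := w.2
    exact ⟨⟨_, hw⟩, rfl⟩
  let w := IsOpenImmersion.lift U.ι ((V.ι ⁻¹ᵁ U).ι ≫ V.ι) hWU
  have hw : w ≫ U.ι = (V.ι ⁻¹ᵁ U).ι ≫ V.ι := IsOpenImmersion.lift_fac _ _ _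
  haveI : IsOpenImmersion (w ≫ U.ι) := by rw [hw]; infer_instance
  haveI : IsOpenImmersion w := IsOpenImmersion.of_comp w U.ι
  -- the object `F` over `U ∩ V`
  obtain ⟨eF⟩ : Nonempty ((DCoh.restrictD (V.ι ⁻¹ᵁ U).ι).obj ((DCoh.restrictD V.ι).obj
      ((DCoh.Rpush U.ι).obj P₀)) ≅ (DCoh.restrictD w).obj P₀) := by
    obtain ⟨c₁⟩ := PerfTri.nonempty_resD_comp (V.ι ⁻¹ᵁ U).ι V.ι ((V.ι ⁻¹ᵁ U).ι ≫ V.ι) rfl
      ((DCoh.Rpush U.ι).obj P₀)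
    obtain ⟨c₂⟩ := PerfTri.nonempty_resD_comp w U.ι ((V.ι ⁻¹ᵁ U).ι ≫ V.ι) hw.symm
      ((DCoh.Rpush U.ι).obj P₀)
    exact ⟨c₁ ≪≫ c₂.symm ≪≫ (DCoh.restrictD w).mapIso (asIso (adjU.counit.app P₀))⟩
  have hF : DCoh.IsPerfect ((DCoh.restrictD (V.ι ⁻¹ᵁ U).ι).obj ((DCoh.restrictD V.ι).obj
      ((DCoh.Rpush U.ι).obj P₀))) :=
    PerfTri.isPerfect_of_iso eF.symm (PtFibre.isPerfect_restrict w hP₀)
  have hFs : ∀ i : ℤ, CohB1.support (DCoh.HD ((DCoh.restrictD (V.ι ⁻¹ᵁ U).ι).obj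
      ((DCoh.restrictD V.ι).obj ((DCoh.Rpush U.ι).obj P₀))) i) ⊆
      {x : ↥((V.ι ⁻¹ᵁ U : (V : Scheme.{u}).Opens) : Scheme.{u}) |
        (V.ι ⁻¹ᵁ U).ι.base x ∈ V.ι.base ⁻¹' T} := by
    intro i
    rw [Qcqs.support_eq_of_iso ((DerivedCategory.homologyFunctor _ i).mapIso eF),
      support_HD_restrictD w P₀ i]
    intro x hx
    have h1 : U.ι.base (w.base x) ∈ T := hP₀s i hx
    have h2 : U.ι.base (w.base x) = V.ι.base ((V.ι ⁻¹ᵁ U).ι.base x) := by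
      have := congrArg (fun f : _ ⟶ X => f.base x) hw
      exact this
    rw [h2] at h1
    exact h1
  obtain ⟨G, hG, hGs, ⟨ψ⟩⟩ := extend_affine' (V : Scheme.{u}) (V.ι.base ⁻¹' T) hTVc hTV
    (V.ι ⁻¹ᵁ U) hW _ hF hFs
  obtain ⟨eΦ⟩ := nonempty_map_biprod_shift
    (DCoh.Rpush U.ι ⋙ DCoh.restrictD V.ι ⋙ DCoh.restrictD (V.ι ⁻¹ᵁ U).ι) P₀
  let φ' : (DCoh.restrictD (V.ι ⁻¹ᵁ U).ι).obj G ≅
      (DCoh.restrictD (V.ι ⁻¹ᵁ U).ι).obj ((DCoh.restrictD V.ι).obj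
        ((DCoh.Rpush U.ι).obj (P₀ ⊞ P₀⟦(1 : ℤ)⟧))) := ψ ≪≫ eΦ.symm
  let a : P₀ ⊞ P₀⟦(1 : ℤ)⟧ ⟶ (DCoh.restrictD U.ι).obj E := biprod.fst ≫ α₀
  haveI hk := isIso_res_res_unit U V E
  let α : (DCoh.restrictD (V.ι ⁻¹ᵁ U).ι).obj G ⟶
      (DCoh.restrictD (V.ι ⁻¹ᵁ U).ι).obj ((DCoh.restrictD V.ι).obj E) :=
    φ'.hom ≫ (DCoh.restrictD (V.ι ⁻¹ᵁ U).ι).map ((DCoh.restrictD V.ι).map
      ((DCoh.Rpush U.ι).map a)) ≫ inv ((DCoh.restrictD (V.ι ⁻¹ᵁ U).ι).map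
        ((DCoh.restrictD V.ι).map ((Corefl.adjOpen U.ι).unit.app E)))
  obtain ⟨Q₁, β, γ, hQ₁, hβ, hβγ, hsupp⟩ := lift_map_supp_affine (V : Scheme.{u}) (V.ι ⁻¹ᵁ U) hW
    G ((DCoh.restrictD V.ι).obj E) hG (isQCohD_restrict V.ι E hE) α
  haveI := hβ
  obtain ⟨R, ρ, θ, σ, hρ⟩ := exists_glue_sch U V hcov (P₀ ⊞ P₀⟦(1 : ℤ)⟧) Q₁ E
    (asIso ((DCoh.restrictD (V.ι ⁻¹ᵁ U).ι).map β) ≪≫ φ') a γ (by
      rw [← hβγ]
      show ((DCoh.restrictD (V.ι ⁻¹ᵁ U).ι).map β ≫ φ'.hom ≫ _ ≫ inv _) ≫ _ =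
        ((DCoh.restrictD (V.ι ⁻¹ᵁ U).ι).map β ≫ φ'.hom) ≫ _
      simp only [Category.assoc, IsIso.inv_hom_id, Category.comp_id])
  refine ⟨R, ρ, θ, ?_, fun i => ?_, hρ⟩
  · exact isPerfect_of_cover U V hcov R
      (PerfTri.isPerfect_of_iso θ.symm (isPerfect_biprod_shift P₀ hP₀))
      (PerfTri.isPerfect_of_iso σ.symm hQ₁)
  · refine supp_of_cover U V hcov T R i ?_ ?_
    · rw [Qcqs.support_eq_of_iso ((DerivedCategory.homologyFunctor _ i).mapIso θ)]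
      exact supp_biprod_shift (X := (U : Scheme.{u})) {v | U.ι.base v ∈ T}
        (hT.preimage U.ι.continuous) P₀ hP₀s i
    · rw [Qcqs.support_eq_of_iso ((DerivedCategory.homologyFunctor _ i).mapIso σ)]
      exact (supp_iff (X := (V : Scheme.{u})) _ hTVc Q₁).2
        (hsupp (cOpen _ hTVc) ((supp_iff (X := (V : Scheme.{u})) _ hTVc G).1 hGs)) i

end Groth.Agent.Lib.Helper2.Glue
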