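import Groth.Agent.Lib.Helper2.Glue.Sch
import Groth.Agent.Lib.Helper13.PCohTri
import Groth.Agent.Lib.Helper13.PerfTor
import Groth.Agent.Lib.Helper2.Aff.QcqsInd

/-!
# Tools for the induction step of approximation by perfect complexes (helper2)
-/

set_option autoImplicit false
set_option linter.style.haveILetI false
universe u
open CategoryTheory CategoryTheory.Limits CategoryTheory.Pretriangulated DerivedCategory
  AlgebraicGeometry

attribute [local instance] HasDerivedCategory.standard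

namespace Groth.Agent.Lib.Helper2.Glue

open Groth.Agent.Lib.Helper2.Aff Groth.Agent.Lib.Helper2.Stk Groth.Agent.Lib.Helper13
  AlgebraicGeometry.Scheme.Modules Groth.Agent.Lib.Helper13.GoodMap
  Groth.Agent.Lib.Helper13.PCohTri

attribute [local instance] Groth.Agent.Lib.Helper2.Stk.hasRpush

variable {X : Scheme.{u}}

/-- the open complement of a closed set -/
def cOpen (T : Set X) (hT : IsClosed T) : X.Opens := ⟨Tᶜ, hT.isOpen_compl⟩

theorem supp_iff (T : Set X) (hT : IsClosed T) (K : DCoh.D X) :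
    (∀ i : ℤ, CohB1.support (DCoh.HD K i) ⊆ T) ↔
      IsZero ((DCoh.restrictD (cOpen T hT).ι).obj K) := by
  rw [isZero_restrictD_iff]
  have h : (((cOpen T hT : X.Opens) : Set X))ᶜ = T := compl_compl T
  rw [h]

theorem supp_deg_iff (T : Set X) (hT : IsClosed T) (K : DCoh.D X) (i : ℤ) :
    CohB1.support (DCoh.HD K i) ⊆ T ↔
      IsZero (DCoh.HD ((DCoh.restrictD (cOpen T hT).ι).obj K) i) := by
  obtain ⟨e⟩ := OpenEquivSupp.nonempty_HD_restrictD_iso (cOpen T hT).ι K i
  have h : (((cOpen T hT : X.Opens) : Set X))ᶜ = T := compl_compl T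
  rw [e.isZero_iff, QCohLoc.isZero_restrict_iff, h]

/-- vanishing of the cohomology of a cone -/
theorem isZero_HD_cone {Y : Scheme.{u}} (T : Triangle (DCoh.D Y)) (hT : T ∈ distTriang _)
    (i j : ℤ) (hij : i + 1 = j)
    (h1 : Epi ((DerivedCategory.homologyFunctor Y.Modules i).map T.mor₁))
    (h2 : Mono ((DerivedCategory.homologyFunctor Y.Modules j).map T.mor₁)) :
    IsZero (DCoh.HD T.obj₃ i) := by
  have e1 := (HomologySequence.epi_homologyMap_mor₁_iff T hT i).1 h1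
  have e2 := (HomologySequence.mono_homologyMap_mor₁_iff T hT i j hij).1 h2
  have hex := HomologySequence.exact₃ T hT i j hij
  haveI : Mono (HomologySequence.δ T i j hij) := hex.mono_g e1
  exact IsZero.of_mono_eq_zero _ e2

/-- lifting an approximation through a triangle whose first vertex is perfect -/
theorem approx_lift_sch (T : Set X) (hT : IsClosed T) (m : ℤ) {R E E' : DCoh.D X}
    (ρ : R ⟶ E) (c : E ⟶ E') (d : E' ⟶ R⟦(1 : ℤ)⟧)
    (hTri : Triangle.mk ρ c d ∈ distTriang (DCoh.D X))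
    (hR : DCoh.IsPerfect R) (hRs : ∀ i : ℤ, CohB1.support (DCoh.HD R i) ⊆ T)
    (P' : DCoh.D X) (α' : P' ⟶ E') (hP' : DCoh.IsPerfect P')
    (hP's : ∀ i : ℤ, CohB1.support (DCoh.HD P' i) ⊆ T) (hα' : Good m α') :
    ∃ (P : DCoh.D X) (α : P ⟶ E), DCoh.IsPerfect P ∧
      (∀ i : ℤ, CohB1.support (DCoh.HD P i) ⊆ T) ∧ Good m α := by
  obtain ⟨P, u, v, hT₁⟩ := distinguished_cocone_triangle₂ (α' ≫ d)
  obtain ⟨α, hα₁, hα₂⟩ := complete_distinguished_triangle_morphism₂ _ _ hT₁ hTri (𝟙 R) α' (by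
    show (α' ≫ d) ≫ (𝟙 R)⟦(1 : ℤ)⟧' = α' ≫ d
    rw [CategoryTheory.Functor.map_id]
    exact Category.comp_id _)
  refine ⟨P, α, (PerfTri.two_of_three _ hT₁).2.1 hR hP', ?_, ?_⟩
  · rw [supp_iff T hT] at hRs hP's ⊢
    exact Triangle.isZero₂_of_isZero₁₃ _ ((DCoh.restrictD _).map_distinguished _ hT₁) hRs hP's
  · let φ : Triangle.mk u v (α' ≫ d) ⟶ Triangle.mk ρ c d :=
      { hom₁ := 𝟙 R
        hom₂ := α
        hom₃ := α'
        comm₁ := hα₁
        comm₂ := hα₂
        comm₃ := by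
          show (α' ≫ d) ≫ (𝟙 R)⟦(1 : ℤ)⟧' = α' ≫ d
          rw [CategoryTheory.Functor.map_id]
          exact Category.comp_id _ }
    have h := good_third (m := m) (inv_rot_of_distTriang _ hT₁) (inv_rot_of_distTriang _ hTri)
      ((invRotate _).map φ) (good_shift hα' (-1) (m + 1) (by omega))
      (good_of_isIso (𝟙 R) m)
    exact h

/-- cones of maps from perfect objects supported on `T` -/
theorem cone_props (T : Set X) (hT : IsClosed T) (n : ℤ) {R E E' : DCoh.D X}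
    (ρ : R ⟶ E) (c : E ⟶ E') (d : E' ⟶ R⟦(1 : ℤ)⟧)
    (hTri : Triangle.mk ρ c d ∈ distTriang (DCoh.D X))
    (hR : DCoh.IsPerfect R) (hRs : ∀ i : ℤ, CohB1.support (DCoh.HD R i) ⊆ T)
    (hE : DCoh.IsQCohD E) (hpc : DCoh.IsPseudoCoherentD n E)
    (hEs : ∀ i : ℤ, n ≤ i → CohB1.support (DCoh.HD E i) ⊆ T) :
    DCoh.IsQCohD E' ∧ DCoh.IsPseudoCoherentD n E' ∧
      ∀ i : ℤ, n ≤ i → CohB1.support (DCoh.HD E' i) ⊆ T := by
  refine ⟨?_, ?_, fun i hi => ?_⟩
  · have hq := HomVan.isQCohD_of_isPerfect R hR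
    exact (Qcqs.devQCoh X).ext₂ _ (rot_of_distTriang _ hTri) hE ((Qcqs.devQCoh X).shift _ 1 hq)
  · exact (isPC_two_of_three n _ hTri).1 (PerfTor.isPC_of_isPerfect R hR (n + 1)) hpc
  · rw [supp_deg_iff T hT]
    have hz := (supp_iff T hT R).1 hRs
    have hTW := (DCoh.restrictD (cOpen T hT).ι).map_distinguished _ hTri
    haveI : IsIso ((DCoh.restrictD (cOpen T hT).ι).map c) :=
      (Triangle.isZero₁_iff_isIso₂ _ hTW).1 hz
    have h0 := (supp_deg_iff T hT E i).1 (hEs i hi)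
    exact h0.of_iso ((DerivedCategory.homologyFunctor _ i).mapIso
      (asIso ((DCoh.restrictD (cOpen T hT).ι).map c))).symm

end Groth.Agent.Lib.Helper2.Glue
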